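import Groth.Agent.SGA7.K543.Main

/-!
# The trace ideal of the first layer of a Barsotti-Tate system is `(p ^ d)`, `d` the dimension of the special fibre
-/

set_option autoImplicit false
set_option linter.unusedSectionVars false
universe u

open TensorProduct WithConv Coalgebra

namespace K543.TrEq

open K543.Tate K543.TateDim K564.Tate K497.TrInt K497.TrNodes IsLocalRing

variable (R : Type u) [CommRing R] [IsDomain R] [IsDiscreteValuationRing R]

/-- the dimension of the cotangent space at the unit of the special fibre. -/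
noncomputable def cotDim (B : Type u) [CommRing B] [HopfAlgebra R B] : ℕ :=
  Module.finrank (ResidueField R)
    (RingHom.ker (Bialgebra.counitAlgHom (ResidueField R) (ResidueField R ⊗[R] B))).Cotangent

/-- the dimension of the cotangent space at the unit of the special fibre of the dual. -/
noncomputable def cotDimD (B : Type u) [CommRing B] [HopfAlgebra R B] [Coalgebra.IsCocomm R B] [Module.Finite R B] : ℕ :=
  Module.finrank (ResidueField R)
    (RingHom.ker (Bialgebra.counitAlgHom (ResidueField R)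
      (CartDual.D (ResidueField R) (ResidueField R ⊗[R] B)))).Cotangent

variable [CharZero R]

theorem pow_mem_trI {p h : ℕ} [hp : Fact p.Prime] (Φ : Sys R p h) :
    (p : R) ^ cotDim R (Φ.B 1) ∈ trI R (Φ.B 1) := by
  obtain ⟨ϖ, hϖ⟩ := IsDiscreteValuationRing.exists_irreducible R
  obtain ⟨x', hx', hg'⟩ := exists_gens_self (R := R) (B := Φ.B 1) ϖ hϖ
  have h7 := nLen R (Φ.B 1) _ x' (fun _ => (p : R)) hx' hg' (fun i => by
    have := K497.Layers.pow_smul_mem Φ 1 (x := x' i) (hx' i)
    rw [pow_one] at this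
    exact this)
  rw [Finset.prod_const, Finset.card_fin] at h7
  exact h7

theorem pow_mem_trI_dual {p h : ℕ} [hp : Fact p.Prime] (Φ : Sys R p h) :
    (p : R) ^ cotDimD R (Φ.B 1) ∈ trI R (CartDual.D R (Φ.B 1)) := by
  obtain ⟨ϖ, hϖ⟩ := IsDiscreteValuationRing.exists_irreducible R
  obtain ⟨x, hx, hg⟩ := exists_gens_dual (R := R) (B := Φ.B 1) ϖ hϖ
  have hfree : Module.Free R (CartDual.D R (Φ.B 1)) := Module.Free.of_equiv (CartDual.toDual R (Φ.B 1)).symm
  have h8 := nLen R (CartDual.D R (Φ.B 1)) _ x (fun _ => (p : R)) hx hg (fun i => by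
    have := K497.Layers.pow_smul_mem (Φ.dual) 1 (x := x i) (hx i)
    rw [pow_one] at this
    exact this)
  rw [Finset.prod_const, Finset.card_fin] at h8
  exact h8

theorem dim_add_le [IsAlgClosed (ResidueField R)] {p h : ℕ} [hp : Fact p.Prime] (hpm : (p : R) ∈ maximalIdeal R)
    (Φ : Sys R p h) : cotDim R (Φ.B 1) + cotDimD R (Φ.B 1) ≤ h := by
  set k := ResidueField R
  have hpk : (p : k) = 0 := by
    have h1 : residue R (p : R) = 0 := (residue_eq_zero_iff _).2 hpm
    rw [map_natCast] at h1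
    exact h1
  have hcp : CharP k p := (CharP.charP_iff_prime_eq_zero hp.out).2 hpk
  let Ψ : Sys k p h := Φ.bc k
  have hc1 : CharP (CartDual.D k (Ψ.B 1)) p := Groth.Agent.Sga3C.HopfPow.charP_of_hopf k _ p
  have h2 := dF_mul_le Ψ
  have h3 := pow_cot_le (k := k) (p := p) (C := Ψ.B 1)
  have h4 := pow_cot_le (k := k) (p := p) (C := CartDual.D k (Ψ.B 1))
  have h6 : p ^ (cotDim R (Φ.B 1) + cotDimD R (Φ.B 1)) ≤ p ^ h := by
    rw [pow_add]
    exact (Nat.mul_le_mul h3 h4).trans h2
  exact (Nat.pow_le_pow_iff_right hp.out.one_lt).1 h6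

/-- `dim G + dim G^D = height`. -/
theorem dim_add [IsAlgClosed (ResidueField R)] {p h : ℕ} [hp : Fact p.Prime] (hpm : (p : R) ∈ maximalIdeal R)
    (Φ : Sys R p h) : cotDim R (Φ.B 1) + cotDimD R (Φ.B 1) = h := by
  apply le_antisymm (dim_add_le R hpm Φ)
  obtain ⟨ϖ, hϖ⟩ := IsDiscreteValuationRing.exists_irreducible R
  have hp0 : (p : R) ≠ 0 := by exact_mod_cast hp.out.ne_zero
  obtain ⟨e, ε, he⟩ := IsDiscreteValuationRing.eq_unit_mul_pow_irreducible hp0 hϖ
  have he0 : e ≠ 0 := by
    rintro rfl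
    rw [pow_zero, mul_one] at he
    rw [he, mem_maximalIdeal] at hpm
    exact hpm ε.isUnit
  have h1 := Ideal.mul_mem_mul (pow_mem_trI R Φ) (pow_mem_trI_dual R Φ)
  rw [nDual R (Φ.B 1), Φ.rank, one_mul, ← pow_add, Ideal.mem_span_singleton, Nat.cast_pow] at h1
  have hun : ¬ IsUnit (p : R) := (mem_maximalIdeal _).1 hpm
  exact (pow_dvd_pow_iff hp0 hun).1 h1

/-- the trace ideal of the first layer. -/
theorem trI_eq [IsAlgClosed (ResidueField R)] {p h : ℕ} [hp : Fact p.Prime] (hpm : (p : R) ∈ maximalIdeal R)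
    (Φ : Sys R p h) : trI R (Φ.B 1) = Ideal.span {(p : R) ^ cotDim R (Φ.B 1)} := by
  have hp0 : (p : R) ≠ 0 := by exact_mod_cast hp.out.ne_zero
  apply le_antisymm
  · intro z hz
    have h10 := Ideal.mul_mem_mul hz (pow_mem_trI_dual R Φ)
    rw [nDual R (Φ.B 1), Φ.rank, one_mul, Nat.cast_pow] at h10
    obtain ⟨w, hw⟩ := Ideal.mem_span_singleton.1 h10
    have h11 : (p : R) ^ h = (p : R) ^ cotDim R (Φ.B 1) * (p : R) ^ cotDimD R (Φ.B 1) := by
      rw [← pow_add, dim_add R hpm Φ]
    rw [h11] at hw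
    rw [Ideal.mem_span_singleton]
    refine ⟨w, mul_right_cancel₀ (pow_ne_zero (cotDimD R (Φ.B 1)) hp0) ?_⟩
    rw [hw]; ring
  · rw [Ideal.span_le, Set.singleton_subset_iff]
    exact pow_mem_trI R Φ

end K543.TrEq
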