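import Groth.Agent.SGA7.K543.Main
import Groth.Agent.SGA7.K497.TrMul
import Groth.Agent.SGA7.K411.GraphE
import Groth.Agent.SGA7.K564.Tate.BC

/-!
# Tate's theorem on the generic fibres of p-divisible groups, unconditionally
-/

set_option autoImplicit false
universe u

namespace K543.TateFull

open K564.Tate

/-- Tate's theorem (node `NFull`). -/
theorem nFull : NFull.{u} :=
  K411.Tate.main K497.TrMul.nMul K497.TrNodes.nLe K497.TrNodes.nEq K497.Layers.nPow K543.TateDim.main

end K543.TateFull
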