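import Groth.Agent.SGA7.K543.FrobRank

/-!
# Iterated Frobenius kernels of finite Hopf algebras: numerical relations
-/

set_option autoImplicit false
set_option linter.unusedSectionVars false
universe u v w

open TensorProduct WithConv Coalgebra

namespace K543.Tate

open Groth.Agent.Sga3C.HopfPow

section gen

variable {k : Type u} [Field k] {C : Type v} [CommRing C] [Algebra k C] {C' : Type w} [CommRing C'] [Algebra k C']

theorem finrank_quot_comap (π : C →ₐ[k] C') (hπ : Function.Surjective π) (I' : Ideal C') (I : Ideal C)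
    (h : ∀ x, x ∈ I ↔ π x ∈ I') : Module.finrank k (C ⧸ I) = Module.finrank k (C' ⧸ I') := by
  let f : C →ₐ[k] C' ⧸ I' := (Ideal.Quotient.mkₐ k I').comp π
  have hf : Function.Surjective f := Ideal.Quotient.mk_surjective.comp hπ
  have hk : RingHom.ker f = I := by
    ext x
    rw [h, RingHom.mem_ker]
    exact Ideal.Quotient.eq_zero_iff_mem
  have h1 := (Ideal.quotientKerAlgEquivOfSurjective hf).toLinearEquiv.finrank_eq
  subst hk
  exact h1

theorem finrank_quot_ker_eq (π : C →ₐ[k] C') (hπ : Function.Surjective π) (I : Ideal C)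
    (h : ∀ x, x ∈ I ↔ π x = 0) : Module.finrank k (C ⧸ I) = Module.finrank k C' := by
  have hk : RingHom.ker π = I := by
    ext x
    rw [h, RingHom.mem_ker]
  have h1 := (Ideal.quotientKerAlgEquivOfSurjective hπ).toLinearEquiv.finrank_eq
  subst hk
  exact h1

theorem finrank_quot_le [Module.Finite k C] (I J : Ideal C) (h : I ≤ J) :
    Module.finrank k (C ⧸ J) ≤ Module.finrank k (C ⧸ I) := by
  refine LinearMap.finrank_le_finrank_of_surjective (f := (Ideal.Quotient.factorₐ k h).toLinearMap) ?_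
  exact Ideal.Quotient.factor_surjective h

theorem eq_of_finrank_quot [Module.Finite k C] (I J : Ideal C) (h : I ≤ J)
    (h2 : Module.finrank k (C ⧸ I) ≤ Module.finrank k (C ⧸ J)) : I = J := by
  apply le_antisymm h
  intro x hx
  have h3 : Function.Surjective (Ideal.Quotient.factorₐ k h).toLinearMap := Ideal.Quotient.factor_surjective h
  have h4 : Function.Injective (Ideal.Quotient.factorₐ k h).toLinearMap := by
    have h5 := LinearMap.finrank_le_finrank_of_surjective h3
    exact (LinearMap.injective_iff_surjective_of_finrank_eq_finrank (le_antisymm h2 h5)).2 h3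
  rw [← Ideal.Quotient.eq_zero_iff_mem]
  apply h4
  rw [map_zero]
  exact Ideal.Quotient.eq_zero_iff_mem.2 hx

end gen

section

variable {k : Type u} [Field k] {p : ℕ} [hp : Fact p.Prime] [CharP k p]

/-- the elements with `x^(p^m) = 0`. -/
noncomputable def Kp (C : Type u) [CommRing C] (p : ℕ) [Fact p.Prime] [CharP C p] (m : ℕ) : Ideal C :=
  RingHom.ker (iterateFrobenius C p m)

theorem mem_Kp {C : Type u} [CommRing C] [CharP C p] {m : ℕ} {x : C} : x ∈ Kp C p m ↔ x ^ (p ^ m) = 0 := by
  rw [Kp, RingHom.mem_ker, iterateFrobenius_def]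

variable {C : Type u} [CommRing C] [HopfAlgebra k C] [CharP C p]

theorem map_augIdeal {C' : Type u} [CommRing C'] [HopfAlgebra k C'] (π : C →ₐc[k] C') (hπ : Function.Surjective π) :
    (augIdeal k C).map (π : C →ₐ[k] C') = augIdeal k C' := by
  apply le_antisymm
  · rw [Ideal.map_le_iff_le_comap]
    intro x hx
    rw [Ideal.mem_comap, mem_augIdeal]
    change counit (R := k) (π x) = 0
    rw [CoalgHomClass.counit_comp_apply]
    exact hx
  · intro y hy
    obtain ⟨x, rfl⟩ := hπ y
    rw [mem_augIdeal, CoalgHomClass.counit_comp_apply] at hy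
    exact Ideal.mem_map_of_mem (π : C →ₐ[k] C') hy

theorem map_frobIdeal {C' : Type u} [CommRing C'] [HopfAlgebra k C'] [CharP C' p] (π : C →ₐc[k] C')
    (I : Ideal C) :
    (I.map (π : C →ₐ[k] C')).map (frobenius C' p) = (I.map (frobenius C p)).map (π : C →ₐ[k] C') := by
  have h1 : (frobenius C' p).comp ((π : C →ₐ[k] C') : C →+* C') = ((π : C →ₐ[k] C') : C →+* C').comp (frobenius C p) := by
    ext x
    exact (map_pow π x p).symm
  have h2 := Ideal.map_map (I := I) ((π : C →ₐ[k] C') : C →+* C') (frobenius C' p)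
  have h3 := Ideal.map_map (I := I) (frobenius C p) ((π : C →ₐ[k] C') : C →+* C')
  rw [h1] at h2
  exact h2.trans h3.symm

/-- the image of the iterated Frobenius, as a quotient Hopf algebra. -/
theorem exists_quot [PerfectRing k p] (m : ℕ) : ∃ (C' : Type u) (_ : CommRing C') (_ : HopfAlgebra k C') (π : C →ₐc[k] C'),
    Function.Surjective π ∧ ∀ x, π x = 0 ↔ x ^ (p ^ m) = 0 := by
  induction m with
  | zero => exact ⟨C, inferInstance, inferInstance, BialgHom.id k C, Function.surjective_id, fun x => by simp⟩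
  | succ m ih =>
    obtain ⟨C', _, _, π, hπ, hk⟩ := ih
    have : CharP C' p := charP_of_hopf k C' p
    have hI : (kerFrob C' p).IsHopfIdeal k := isHopfIdeal_kerFrob p
    refine ⟨C' ⧸ kerFrob C' p, inferInstance, inferInstance, (Bialgebra.Quotient.mkBialgHom (kerFrob C' p)).comp π,
      ?_, ?_⟩
    · exact Ideal.Quotient.mk_surjective.comp hπ
    · intro x
      change Ideal.Quotient.mk (kerFrob C' p) (π x) = 0 ↔ _
      rw [Ideal.Quotient.eq_zero_iff_mem, mem_kerFrob, ← map_pow, hk, ← pow_mul, pow_succ, mul_comm]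

theorem finrank_Kp [IsAlgClosed k] [Module.Finite k C] (m : ℕ) :
    Module.finrank k (C ⧸ Kp C p m) = Module.finrank k (C ⧸ Kp C p (m + 1)) *
      Module.finrank k (C ⧸ (frobIdeal k p C ⊔ Kp C p m)) := by
  obtain ⟨C', _, _, π, hπ, hk⟩ := exists_quot (k := k) (p := p) (C := C) m
  have : CharP C' p := charP_of_hopf k C' p
  have : Module.Finite k C' := Module.Finite.of_surjective (π : C →ₗ[k] C') hπ
  have h1 : Module.finrank k (C ⧸ Kp C p m) = Module.finrank k C' :=
    finrank_quot_ker_eq (π : C →ₐ[k] C') hπ _ (fun x => by rw [mem_Kp]; exact (hk x).symm)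
  have h2 : Module.finrank k (C ⧸ Kp C p (m + 1)) = Module.finrank k (C' ⧸ kerFrob C' p) :=
    finrank_quot_comap (π : C →ₐ[k] C') hπ _ _ (fun x => by
      rw [mem_Kp, mem_kerFrob]
      change _ ↔ (π x) ^ p = 0
      rw [← map_pow, hk, ← pow_mul, pow_succ, mul_comm])
  have h3 : Module.finrank k (C ⧸ (frobIdeal k p C ⊔ Kp C p m)) = Module.finrank k (C' ⧸ frobIdeal k p C') := by
    refine finrank_quot_comap (π : C →ₐ[k] C') hπ _ _ (fun x => ?_)
    have h4 : frobIdeal k p C' = (frobIdeal k p C).map (π : C →ₐ[k] C') := by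
      rw [frobIdeal, ← map_augIdeal π hπ]
      exact map_frobIdeal π _
    rw [h4, ← Ideal.mem_comap, Ideal.comap_map_of_surjective (π : C →ₐ[k] C') hπ]
    have h5 : Ideal.comap (π : C →ₐ[k] C') ⊥ = Kp C p m := by
      ext y
      rw [mem_Kp, Ideal.mem_comap, Ideal.mem_bot]
      exact hk y
    rw [h5]
  rw [h1, h2, h3]
  exact finrank_eq_frob_mul p k C'

/-- comparison of the images of Frobenius. -/
theorem finrank_Kp_le [IsAlgClosed k] [Module.Finite k C] {D : Type u} [CommRing D] [HopfAlgebra k D] [CharP D p]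
    [Module.Finite k D] (u : C →ₐc[k] D) (m : ℕ) :
    Module.finrank k (D ⧸ Kp D p m) ≤ Module.finrank k (C ⧸ Kp C p m) *
      Module.finrank k (D ⧸ (augIdeal k C).map (u : C →ₐ[k] D)) := by
  obtain ⟨D', _, _, π, hπ, hk⟩ := exists_quot (k := k) (p := p) (C := D) m
  have : Module.Finite k D' := Module.Finite.of_surjective (π : D →ₗ[k] D') hπ
  have h1 : Module.finrank k (D ⧸ Kp D p m) = Module.finrank k D' :=
    finrank_quot_ker_eq (π : D →ₐ[k] D') hπ _ (fun x => by rw [mem_Kp]; exact (hk x).symm)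
  rw [h1, finrank_eq_rank_mul (π.comp u)]
  refine Nat.mul_le_mul ?_ ?_
  · have h2 : Kp C p m ≤ RingHom.ker ((π.comp u : C →ₐc[k] D') : C →ₐ[k] D') := by
      intro x hx
      rw [RingHom.mem_ker]
      change π (u x) = 0
      rw [hk, ← map_pow, mem_Kp.1 hx, map_zero]
    have h3 := finrank_quot_le (k := k) _ _ h2
    refine le_trans (le_of_eq ?_) h3
    have h4 : Module.finrank k (C ⧸ LinearMap.ker ((π.comp u : C →ₐc[k] D') : C →ₗ[k] D')) =
        Module.finrank k (LinearMap.range ((π.comp u : C →ₐc[k] D') : C →ₗ[k] D')) :=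
      (LinearMap.quotKerEquivRange _).finrank_eq
    rw [← h4]
    rfl
  · let f : D →ₐ[k] (D' ⧸ (augIdeal k C).map ((π.comp u : C →ₐc[k] D') : C →ₐ[k] D')) :=
      (Ideal.Quotient.mkₐ k _).comp (π : D →ₐ[k] D')
    have hf : Function.Surjective f := Ideal.Quotient.mk_surjective.comp hπ
    have hle : (augIdeal k C).map (u : C →ₐ[k] D) ≤ RingHom.ker f := by
      rw [Ideal.map_le_iff_le_comap]
      intro x hx
      rw [Ideal.mem_comap, RingHom.mem_ker]
      change Ideal.Quotient.mk _ (((π.comp u : C →ₐc[k] D') : C →ₐ[k] D') x) = 0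
      rw [Ideal.Quotient.eq_zero_iff_mem]
      exact Ideal.mem_map_of_mem _ hx
    have h5 := finrank_quot_le (k := k) _ _ hle
    rw [(Ideal.quotientKerAlgEquivOfSurjective hf).toLinearEquiv.finrank_eq] at h5
    exact h5

end

end K543.Tate
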