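import Groth.Agent.SGA7.K543.FrobRank
import Groth.Agent.S17328
import Mathlib.RingTheory.Ideal.Cotangent

/-!
# The order of the kernel of Frobenius is at least `p` to the dimension of the cotangent space
-/

set_option autoImplicit false
set_option linter.unusedSectionVars false
universe u v w

open TensorProduct WithConv Coalgebra

namespace K543.Tate

open Groth.Agent.Sga3C.HopfPow

variable {k : Type u} [Field k] {p : ℕ} [hp : Fact p.Prime] [CharP k p]
variable {C : Type v} [CommRing C] [HopfAlgebra k C] [CharP C p]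

theorem map_mk_pow (t : C ⊗[k] C) :
    Algebra.TensorProduct.map (Ideal.Quotient.mkₐ k (frobIdeal k p C)) (Ideal.Quotient.mkₐ k (frobIdeal k p C)) (t ^ p) =
      algebraMap k _ ((LinearMap.mul' k k (TensorProduct.map counit counit t)) ^ p) := by
  have : CharP (C ⊗[k] C) p := charP_of_hopf k (C ⊗[k] C) p
  induction t with
  | zero => rw [zero_pow hp.out.ne_zero, map_zero, map_zero, map_zero, zero_pow hp.out.ne_zero, map_zero]
  | tmul x y =>
    have key : ∀ y : C, Ideal.Quotient.mkₐ k (frobIdeal k p C) (y ^ p) =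
        algebraMap k _ (counit (R := k) y ^ p) := by
      intro y
      have h1 : y - algebraMap k C (counit y) ∈ augIdeal k C := by
        rw [mem_augIdeal, map_sub, Bialgebra.counit_algebraMap, sub_self]
      have h2 := pow_mem_frobIdeal p h1
      rw [sub_pow_char, ← map_pow] at h2
      have h3 : Ideal.Quotient.mk (frobIdeal k p C) (y ^ p) =
          Ideal.Quotient.mk (frobIdeal k p C) (algebraMap k C (counit (R := k) y ^ p)) :=
        Ideal.Quotient.eq.2 h2
      exact h3
    rw [Algebra.TensorProduct.tmul_pow, Algebra.TensorProduct.map_tmul, key, key, TensorProduct.map_tmul,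
      LinearMap.mul'_apply, mul_pow]
    rw [Algebra.algebraMap_eq_smul_one, Algebra.algebraMap_eq_smul_one, TensorProduct.smul_tmul_smul,
      Algebra.algebraMap_eq_smul_one, Algebra.TensorProduct.one_def]
  | add x y hx hy =>
    rw [add_pow_char, map_add, hx, hy, map_add, map_add, add_pow_char, map_add]

theorem isHopfIdeal_frobIdeal : (frobIdeal k p C).IsHopfIdeal k where
  antipode_mem := by
    intro x hx
    have h1 : frobIdeal k p C ≤ (frobIdeal k p C).comap (HopfAlgebra.antipodeAlgHom k C) := by
      rw [frobIdeal, Ideal.map_le_iff_le_comap]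
      intro y hy
      rw [Ideal.mem_comap, Ideal.mem_comap, frobenius_def, map_pow]
      apply pow_mem_frobIdeal p
      rw [mem_augIdeal, HopfAlgebra.antipodeAlgHom_apply, HopfAlgebra.counit_antipode]
      exact hy
    exact h1 hx
  counit_eq_zero := by
    intro x hx
    exact frobIdeal_le p hx
  map_mkQ_comul_eq_zero := by
    intro x hx
    let Ψ : C →ₐ[k] (C ⧸ frobIdeal k p C) ⊗[k] (C ⧸ frobIdeal k p C) :=
      (Algebra.TensorProduct.map (Ideal.Quotient.mkₐ k (frobIdeal k p C))
        (Ideal.Quotient.mkₐ k (frobIdeal k p C))).comp (Bialgebra.comulAlgHom k C)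
    change Ψ x = 0
    have key : frobIdeal k p C ≤ RingHom.ker Ψ := by
      change (augIdeal k C).map (frobenius C p) ≤ _
      rw [Ideal.map_le_iff_le_comap]
      intro y hy
      rw [Ideal.mem_comap, RingHom.mem_ker]
      change Algebra.TensorProduct.map _ _ (Bialgebra.comulAlgHom k C (y ^ p)) = 0
      rw [map_pow, map_mk_pow]
      have h2 : LinearMap.mul' k k (TensorProduct.map counit counit (Bialgebra.comulAlgHom k C y)) = counit (R := k) y := by
        have h3 := LinearMap.convMul_apply (1 : WithConv (C →ₗ[k] k)) 1 y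
        rw [mul_one] at h3
        exact h3.symm
      rw [h2, mem_augIdeal.1 hy, zero_pow hp.out.ne_zero, map_zero]
    exact key hx

theorem frobIdeal_le_sq : frobIdeal k p C ≤ (augIdeal k C) ^ 2 := by
  rw [frobIdeal, Ideal.map_le_iff_le_comap]
  intro y hy
  rw [Ideal.mem_comap, frobenius_def]
  exact Ideal.pow_le_pow_right hp.out.two_le (Ideal.pow_mem_pow hy p)

/-- the order of the kernel of Frobenius is at least `p` to the dimension of the cotangent space at the unit. -/
theorem pow_cot_le [IsAlgClosed k] [Module.Finite k C] :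
    p ^ Module.finrank k (RingHom.ker (Bialgebra.counitAlgHom k C)).Cotangent ≤
      Module.finrank k (C ⧸ frobIdeal k p C) := by
  have hI : (frobIdeal k p C).IsHopfIdeal k := isHopfIdeal_frobIdeal
  let Q := C ⧸ frobIdeal k p C
  have hQ : ∀ f : Q, Bialgebra.counitAlgHom k Q f = 0 → f ^ p = 0 := by
    intro f hf
    obtain ⟨x, rfl⟩ := Ideal.Quotient.mk_surjective f
    have hx : x ∈ augIdeal k C := hf
    rw [← map_pow, Ideal.Quotient.eq_zero_iff_mem]
    exact pow_mem_frobIdeal p hx
  rw [Groth.Agent.S17328.result k p Q hQ]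
  apply Nat.pow_le_pow_right hp.out.pos
  let φ := Ideal.mapCotangent (RingHom.ker (Bialgebra.counitAlgHom k C)) (RingHom.ker (Bialgebra.counitAlgHom k Q))
    (Ideal.Quotient.mkₐ k (frobIdeal k p C)) (fun x hx => hx)
  have hfin : Module.Finite k (RingHom.ker (Bialgebra.counitAlgHom k Q)).Cotangent := by
    have h0 : Module.Finite k (RingHom.ker (Bialgebra.counitAlgHom k Q)) :=
      inferInstanceAs (Module.Finite k ((RingHom.ker (Bialgebra.counitAlgHom k Q)).restrictScalars k))
    exact Module.Finite.of_surjective ((Ideal.toCotangent (RingHom.ker (Bialgebra.counitAlgHom k Q))).restrictScalars k)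
      (Ideal.toCotangent_surjective _)
  refine LinearMap.finrank_le_finrank_of_injective (f := φ) ?_
  rw [← LinearMap.ker_eq_bot, LinearMap.ker_eq_bot']
  intro y hy
  obtain ⟨y, rfl⟩ := Ideal.toCotangent_surjective _ y
  have h1 : φ (Ideal.toCotangent _ y) = Ideal.toCotangent (RingHom.ker (Bialgebra.counitAlgHom k Q))
    ⟨Ideal.Quotient.mk _ y.1, y.2⟩ := rfl
  rw [h1, Ideal.toCotangent_eq_zero] at hy
  rw [Ideal.toCotangent_eq_zero]
  have h2 : RingHom.ker (Bialgebra.counitAlgHom k Q) = (augIdeal k C).map (Ideal.Quotient.mk (frobIdeal k p C)) := by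
    apply le_antisymm
    · intro z hz
      obtain ⟨x, rfl⟩ := Ideal.Quotient.mk_surjective z
      exact Ideal.mem_map_of_mem _ hz
    · rw [Ideal.map_le_iff_le_comap]
      intro z hz
      exact hz
  have h3 : Ideal.Quotient.mk (frobIdeal k p C) y.1 ∈ ((augIdeal k C) ^ 2).map (Ideal.Quotient.mk (frobIdeal k p C)) := by
    rw [Ideal.map_pow, ← h2]
    exact hy
  rw [Ideal.mem_map_iff_of_surjective _ Ideal.Quotient.mk_surjective] at h3
  obtain ⟨z, hz, hzy⟩ := h3
  have h4 : y.1 - z ∈ frobIdeal k p C := by
    rw [← Ideal.Quotient.eq]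
    exact hzy.symm
  have h5 := add_mem (frobIdeal_le_sq (p := p) h4) hz
  rw [sub_add_cancel] at h5
  exact h5

end K543.Tate
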