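import Groth.Agent.SGA7.K543.SysF2
import Groth.Agent.SGA7.K543.CotRank
import Groth.Agent.SGA7.K497.TrNodes
import Groth.Agent.SGA7.K497.Layers
import Groth.Agent.SGA7.K564.Tate.BC
import Groth.Agent.SGA7.K564.Tate.Dual

/-!
# Generically equal Barsotti-Tate systems over a discrete valuation ring of characteristic zero

An elementary proof of `NDim`: the special fibre of a homomorphism which is generically an isomorphism is an isogeny.
-/

set_option autoImplicit false
set_option linter.unusedSectionVars false
universe u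

open TensorProduct WithConv Coalgebra

namespace K543.TateDim

open K543.Tate K564.Tate K497.TrInt K497.TrNodes IsLocalRing

section pow

variable {R : Type u} [CommRing R] [IsDomain R] [IsDiscreteValuationRing R] [CharZero R]
variable {A : Type u} [CommRing A] [HopfAlgebra R A] [Coalgebra.IsCocomm R A] [Module.Finite R A] [Module.Free R A]
variable {D : Type u} [CommRing D] [Algebra R D] [Module.Finite R D] [Module.Free R D]

/-- the kernel of the reduction of an inclusion of orders which are generically equal is nilpotent, with a bound for the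
exponent in terms of the valuation of the rank. -/
theorem pow_mem (u : A →ₐ[R] D) (hu : Function.Injective u) (ht : ∀ b : D, ∃ r : R, r ≠ 0 ∧ ∃ a, u a = r • b)
    (ϖ : R) (hϖ : Irreducible ϖ) (N : ℕ) (hN : ¬ ϖ ^ N ∣ ((Module.finrank R A : ℕ) : R)) (g : A)
    (hg : ∃ y, u g = ϖ • y) : ∃ a : A, g ^ N = ϖ • a := by
  obtain ⟨y, hy⟩ := hg
  obtain ⟨l, t, hlt⟩ := exists_isInt (R := R) (B := A) finrank_ne_zero
  let e := Module.Free.chooseBasis R A
  have hm : maximalIdeal R = Ideal.span {ϖ} := hϖ.maximalIdeal_eq
  have h1 : ∀ b, l (b * g ^ N) ∈ maximalIdeal R := by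
    intro b
    by_contra hun
    have hunit : IsUnit (l (b * g ^ N)) := by
      by_contra h2
      exact hun ((mem_maximalIdeal _).2 h2)
    have h2 : Algebra.trace R A (b * g ^ N) = ϖ ^ N * Algebra.trace R D (u b * y ^ N) := by
      rw [← trace_map u hu ht, map_mul, map_pow, hy, smul_pow, mul_smul_comm, map_smul, smul_eq_mul]
    rw [hlt.trace_eq] at h2
    have h3 : ϖ ^ N ∣ counit (R := R) t := by
      rw [← hunit.dvd_mul_right]
      exact ⟨_, h2⟩
    apply hN
    have h4 := hlt.trace_eq 1
    have h5 := Algebra.trace_algebraMap (R := R) (S := A) (1 : R)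
    rw [map_one, nsmul_eq_mul, mul_one] at h5
    rw [← h5, h4]
    exact h3.mul_right _
  have h2 : ∀ i, ∃ c, e.repr (g ^ N) i = ϖ * c := by
    intro i
    have h3 := repr_mem e (maximalIdeal R) hlt.inv hlt.one h1 i
    rw [hm] at h3
    exact Ideal.mem_span_singleton.1 h3
  choose c hc using h2
  refine ⟨∑ i, c i • e i, ?_⟩
  conv_lhs => rw [← e.sum_repr (g ^ N)]
  rw [Finset.smul_sum]
  refine Finset.sum_congr rfl fun i _ => ?_
  rw [hc, mul_smul]

/-- an element of a free module whose reduction is zero is divisible by the uniformizer. -/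
theorem exists_of_tmul_eq_zero {M : Type u} [AddCommGroup M] [Module R M] [Module.Finite R M] [Module.Free R M]
    (ϖ : R) (hϖ : Irreducible ϖ) (x : M) (hx : (1 : ResidueField R) ⊗ₜ[R] x = 0) : ∃ y, x = ϖ • y := by
  let e := Module.Free.chooseBasis R M
  have hm : maximalIdeal R = Ideal.span {ϖ} := hϖ.maximalIdeal_eq
  have h2 : ∀ i, ∃ c, e.repr x i = ϖ * c := by
    intro i
    have h3 : (e.baseChange (ResidueField R)).repr ((1 : ResidueField R) ⊗ₜ[R] x) i = 0 := by
      rw [hx, map_zero, Finsupp.zero_apply]
    rw [Module.Basis.baseChange_repr_tmul] at h3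
    have h4 : residue R (e.repr x i) = 0 := by
      rw [Algebra.smul_def, mul_one] at h3
      exact h3
    rw [residue_eq_zero_iff, hm] at h4
    exact Ideal.mem_span_singleton.1 h4
  choose c hc using h2
  refine ⟨∑ i, c i • e i, ?_⟩
  conv_lhs => rw [← e.sum_repr x]
  rw [Finset.smul_sum]
  refine Finset.sum_congr rfl fun i _ => ?_
  rw [hc, mul_smul]

theorem exists_tmul {M : Type u} [AddCommGroup M] [Module R M] (y : ResidueField R ⊗[R] M) :
    ∃ x : M, (1 : ResidueField R) ⊗ₜ[R] x = y := by
  induction y using TensorProduct.induction_on with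
  | zero => exact ⟨0, by rw [tmul_zero]⟩
  | tmul c x =>
    obtain ⟨r, rfl⟩ := residue_surjective c
    refine ⟨r • x, ?_⟩
    rw [tmul_smul, smul_tmul', Algebra.smul_def, mul_one]
    rfl
  | add a b ha hb =>
    obtain ⟨x, hx⟩ := ha
    obtain ⟨y, hy⟩ := hb
    exact ⟨x + y, by rw [tmul_add, hx, hy]⟩

end pow

end K543.TateDim
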