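import Groth.Agent.SGA7.K543.Rank

/-!
# The order of a finite group scheme is the order of the kernel of Frobenius times the order of its image
-/

set_option autoImplicit false
set_option linter.unusedSectionVars false
universe u v w

open TensorProduct WithConv Coalgebra

namespace K543.Tate

open Groth.Agent.Sga3C.HopfPow

/-- the field `k`, to be considered as an algebra over `k` through Frobenius. -/
def Tw (_p : ℕ) (k : Type u) : Type u := k

/-- the ring `C`, considered as an algebra over `Tw p k`. -/
def Tg (_p : ℕ) (_k : Type u) (C : Type v) : Type v := C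

section

variable (p : ℕ) [hp : Fact p.Prime] (k : Type u) [Field k] [CharP k p] (C : Type v) [CommRing C] [HopfAlgebra k C]

noncomputable instance : Field (Tw p k) := inferInstanceAs (Field k)

instance [IsAlgClosed k] : IsAlgClosed (Tw p k) := inferInstanceAs (IsAlgClosed k)

instance : CharP (Tw p k) p := inferInstanceAs (CharP k p)

noncomputable instance algTw : Algebra k (Tw p k) := RingHom.toAlgebra (frobenius k p : k →+* k)

noncomputable instance : CommRing (Tg p k C) := inferInstanceAs (CommRing C)

noncomputable instance : HopfAlgebra (Tw p k) (Tg p k C) := inferInstanceAs (HopfAlgebra k C)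

noncomputable instance algTg : Algebra k (Tg p k C) :=
  ((algebraMap (Tw p k) (Tg p k C)).comp (algebraMap k (Tw p k))).toAlgebra

instance : IsScalarTower k (Tw p k) (Tg p k C) := IsScalarTower.of_algebraMap_eq' rfl

instance [Module.Finite k C] : Module.Finite (Tw p k) (Tg p k C) := inferInstanceAs (Module.Finite k C)

/-- the `p`-th power map. -/
noncomputable def powTg : C →ₐ[k] Tg p k C :=
  have : CharP C p := charP_of_hopf k C p
  { (frobenius C p : C →+* C) with
    commutes' := fun c => by
      change (algebraMap k C c) ^ p = algebraMap k C (c ^ p)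
      rw [map_pow] }

theorem powTg_apply (x : C) : powTg p k C x = (x ^ p : C) := rfl

/-- the relative Frobenius, as an algebra map. -/
noncomputable def relF : Tw p k ⊗[k] C →ₐ[Tw p k] Tg p k C :=
  Algebra.TensorProduct.lift (Algebra.ofId _ _) (powTg p k C) (fun _ _ => Commute.all _ _)

theorem relF_tmul (c : Tw p k) (x : C) : relF p k C (c ⊗ₜ x) = (c • (powTg p k C x) : Tg p k C) := by
  rw [relF, Algebra.TensorProduct.lift_tmul, Algebra.smul_def]
  rfl

theorem relF_one_tmul (x : C) : relF p k C (1 ⊗ₜ x) = (x ^ p : C) := by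
  rw [relF_tmul, one_smul]
  rfl

/-- the relative Frobenius, as a bialgebra map. -/
noncomputable def relFB : Tw p k ⊗[k] C →ₐc[Tw p k] Tg p k C :=
  BialgHom.ofAlgHom (relF p k C)
    (by
      apply Algebra.TensorProduct.ext_ring
      apply AlgHom.ext
      intro x
      have h1 := congrArg (fun t => t x) (Bialgebra.counitAlgHom_comp_includeRight (R := k) (A := Tw p k) (B := C))
      refine Eq.trans ?_ h1.symm
      change (counit (R := Tw p k) (relF p k C (1 ⊗ₜ x))) = algebraMap k (Tw p k) (counit x)
      rw [relF_one_tmul]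
      change (Bialgebra.counitAlgHom k C) (x ^ p) = (counit x : k) ^ p
      rw [map_pow]
      rfl)
    (by
      apply Algebra.TensorProduct.ext_ring
      apply AlgHom.ext
      intro x
      have h1 := congrArg (fun t => t x) (Bialgebra.comul_includeRight (R := k) (A := Tw p k) (B := C))
      let r := Coalgebra.Repr.arbitrary k x
      have h2 : comul (R := Tw p k) ((1 : Tw p k) ⊗ₜ[k] x) = ∑ i ∈ r.index,
          ((1 : Tw p k) ⊗ₜ[k] r.left i) ⊗ₜ[Tw p k] ((1 : Tw p k) ⊗ₜ[k] r.right i) := by
        refine h1.trans ?_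
        rw [RingHom.comp_apply]
        have h0 : (RingHomClass.toRingHom (Bialgebra.comulAlgHom k C)) x =
          ∑ i ∈ r.index, r.left i ⊗ₜ[k] r.right i := r.eq.symm
        rw [h0, map_sum]
        refine Finset.sum_congr rfl fun i _ => ?_
        rw [Algebra.TensorProduct.mapRingHom_tmul]
        rfl
      change (Algebra.TensorProduct.map (relF p k C) (relF p k C)) (comul (R := Tw p k) ((1 : Tw p k) ⊗ₜ[k] x)) =
        comul (R := Tw p k) (relF p k C (1 ⊗ₜ x))
      rw [h2, relF_one_tmul, map_sum]
      have hcc : CharP (C ⊗[k] C) p := charP_of_hopf k (C ⊗[k] C) p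
      have h3 : comul (R := k) (x ^ p) = ∑ i ∈ r.index, (r.left i ^ p) ⊗ₜ[k] (r.right i ^ p) := by
        rw [Bialgebra.comul_pow, ← r.eq, sum_pow_char p]
        simp only [Algebra.TensorProduct.tmul_pow]
      refine Eq.trans ?_ h3.symm
      refine Finset.sum_congr rfl fun i _ => ?_
      rw [Algebra.TensorProduct.map_tmul, relF_one_tmul, relF_one_tmul]
      rfl)

theorem relFB_apply (t : Tw p k ⊗[k] C) : relFB p k C t = relF p k C t := rfl

theorem relF_eq_pow [PerfectRing k p] (t : Tw p k ⊗[k] C) : ∃ x : C, relF p k C t = (x ^ p : C) := by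
  have : CharP C p := charP_of_hopf k C p
  induction t with
  | zero => exact ⟨0, by rw [map_zero, zero_pow hp.out.ne_zero]; rfl⟩
  | tmul c x =>
    refine ⟨((frobeniusEquiv k p).symm c) • x, ?_⟩
    rw [relF_tmul, smul_pow]
    have h1 : ((frobeniusEquiv k p).symm c) ^ p = c := frobeniusEquiv_symm_pow_p k p c
    rw [h1]
    rfl
  | add x y hx hy =>
    obtain ⟨a, ha⟩ := hx
    obtain ⟨b, hb⟩ := hy
    exact ⟨a + b, by rw [map_add, ha, hb, add_pow_char]; rfl⟩

theorem finrank_range [PerfectRing k p] [CharP C p] :
    Module.finrank (Tw p k) (LinearMap.range (relFB p k C : Tw p k ⊗[k] C →ₗ[Tw p k] Tg p k C)) =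
      Module.finrank k (C ⧸ kerFrob C p) := by
  let j₀ : (C ⧸ kerFrob C p) →+ LinearMap.range (relFB p k C : Tw p k ⊗[k] C →ₗ[Tw p k] Tg p k C) :=
    { toFun := fun x => ⟨(frobBar C p x : C), by
        obtain ⟨x, rfl⟩ := Ideal.Quotient.mk_surjective x
        exact ⟨1 ⊗ₜ x, relF_one_tmul p k C x⟩⟩
      map_zero' := Subtype.ext (map_zero (frobBar C p))
      map_add' := fun x y => Subtype.ext (map_add (frobBar C p) x y) }
  have hj : Function.Bijective j₀ := by
    constructor
    · intro x y h
      exact frobBar_injective p (congrArg Subtype.val h)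
    · rintro ⟨y, t, rfl⟩
      obtain ⟨x, hx⟩ := relF_eq_pow p k C t
      exact ⟨Ideal.Quotient.mk _ x, Subtype.ext hx.symm⟩
  have h := lift_rank_eq_of_equiv_equiv (R := k) (R' := Tw p k) (fun c : k => (frobenius k p c : k))
    (AddEquiv.ofBijective j₀ hj) (PerfectRing.bijective_frobenius (R := k) (p := p)) (fun c x => by
      apply Subtype.ext
      exact frobBar_smul p c x)
  have h2 := congrArg Cardinal.toNat h
  rw [Cardinal.toNat_lift, Cardinal.toNat_lift] at h2
  exact h2.symm

theorem map_relFB [CharP C p] :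
    (augIdeal (Tw p k) (Tw p k ⊗[k] C)).map (relFB p k C : Tw p k ⊗[k] C →ₐ[Tw p k] Tg p k C) =
      (frobIdeal k p C : Ideal C) := by
  have hco : ∀ (c : Tw p k) (x : C), counit (R := Tw p k) (c ⊗ₜ[k] x) = c * (algebraMap k (Tw p k) (counit x)) := by
    intro c x
    have h1 := congrArg (fun t => t x) (Bialgebra.counitAlgHom_comp_includeRight (R := k) (A := Tw p k) (B := C))
    have h2 : counit (R := Tw p k) ((1 : Tw p k) ⊗ₜ[k] x) = algebraMap k (Tw p k) (counit x) := h1
    have h3 : c ⊗ₜ[k] x = c • ((1 : Tw p k) ⊗ₜ[k] x) := by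
      rw [TensorProduct.smul_tmul', smul_eq_mul, mul_one]
    rw [h3, map_smul, h2, smul_eq_mul]
  apply le_antisymm
  · rw [Ideal.map_le_iff_le_comap]
    intro t ht
    rw [Ideal.mem_comap]
    have key : ∀ t : Tw p k ⊗[k] C, relF p k C t - algebraMap (Tw p k) (Tg p k C) (counit t) ∈
        (frobIdeal k p C : Ideal C) := by
      intro t
      induction t with
      | zero => rw [map_zero, map_zero, map_zero, sub_zero]; exact zero_mem _
      | tmul c x =>
        have h1 : x - algebraMap k C (counit x) ∈ augIdeal k C := by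
          rw [mem_augIdeal, map_sub, Bialgebra.counit_algebraMap, sub_self]
        have h2 := pow_mem_frobIdeal p h1
        have h3 : relF p k C (c ⊗ₜ x) - algebraMap (Tw p k) (Tg p k C) (counit (c ⊗ₜ[k] x)) =
            (algebraMap k C c * (x - algebraMap k C (counit x)) ^ p : C) := by
          rw [hco, relF_tmul, sub_pow_char, mul_sub, map_mul, Algebra.smul_def]
          change (algebraMap k C c * x ^ p - algebraMap k C c * algebraMap k C ((counit x) ^ p) : C) = _
          rw [map_pow]
        rw [h3]
        exact Ideal.mul_mem_left _ _ h2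
      | add a b ha hb =>
        rw [map_add, map_add, map_add, add_sub_add_comm]
        exact add_mem ha hb
    have h1 := key t
    have h2 : counit (R := Tw p k) t = 0 := ht
    rw [h2, map_zero, sub_zero] at h1
    exact h1
  · let I : Ideal C := (augIdeal (Tw p k) (Tw p k ⊗[k] C)).map (relFB p k C : Tw p k ⊗[k] C →ₐ[Tw p k] Tg p k C)
    change (frobIdeal k p C : Ideal C) ≤ I
    rw [frobIdeal, Ideal.map_le_iff_le_comap]
    intro x hx
    rw [Ideal.mem_comap]
    have h1 : (1 : Tw p k) ⊗ₜ[k] x ∈ augIdeal (Tw p k) (Tw p k ⊗[k] C) := by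
      rw [mem_augIdeal, hco, mem_augIdeal.1 hx, map_zero, mul_zero]
    have h2 := Ideal.mem_map_of_mem (relFB p k C : Tw p k ⊗[k] C →ₐ[Tw p k] Tg p k C) h1
    have h3 : (relFB p k C : Tw p k ⊗[k] C →ₐ[Tw p k] Tg p k C) ((1 : Tw p k) ⊗ₜ[k] x) = (x ^ p : C) :=
      relF_one_tmul p k C x
    rw [h3] at h2
    exact h2

/-- the order of a finite group scheme is the order of the image of Frobenius times the order of its kernel. -/
theorem finrank_eq_frob_mul [IsAlgClosed k] [Module.Finite k C] [CharP C p] :
    Module.finrank k C = Module.finrank k (C ⧸ kerFrob C p) * Module.finrank k (C ⧸ frobIdeal k p C) := by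
  have h := finrank_eq_rank_mul (k := Tw p k) (relFB p k C)
  rw [finrank_range, map_relFB] at h
  exact h

end

end K543.Tate
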