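import Groth.Agent.SGA7.K543.Dvr

/-!
# `NDim`
-/

set_option autoImplicit false
set_option linter.unusedSectionVars false
universe u

open TensorProduct WithConv Coalgebra

namespace K543.TateDim

open K543.Tate K564.Tate K497.TrInt K497.TrNodes IsLocalRing

theorem finite_cot (k : Type u) [Field k] (C : Type u) [CommRing C] [HopfAlgebra k C] [Module.Finite k C] :
    Module.Finite k (RingHom.ker (Bialgebra.counitAlgHom k C)).Cotangent := by
  have h0 : Module.Finite k (RingHom.ker (Bialgebra.counitAlgHom k C)) :=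
    inferInstanceAs (Module.Finite k ((RingHom.ker (Bialgebra.counitAlgHom k C)).restrictScalars k))
  exact Module.Finite.of_surjective ((Ideal.toCotangent (RingHom.ker (Bialgebra.counitAlgHom k C))).restrictScalars k)
    (Ideal.toCotangent_surjective _)

section cot

variable {R : Type u} [CommRing R] [IsDomain R] [IsDiscreteValuationRing R]
variable {E : Type u} [CommRing E] [HopfAlgebra R E] [Module.Finite R E] [Module.Free R E]
variable {k : Type u} [Field k] (red : R →+* k) (hred : Function.Surjective red)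
variable {E' : Type u} [CommRing E'] [HopfAlgebra k E'] [Module.Finite k E']
include hred

theorem exists_gens (ϖ : R) (hϖ : Irreducible ϖ) (ρ : E →+* E') (hρ : Function.Surjective ρ)
    (hker : ∀ x, ρ x = 0 → ∃ y, x = ϖ • y) (hε : ∀ x, counit (R := k) (ρ x) = red (counit x))
    (hsm : ∀ (r : R) x, ρ (r • x) = red r • ρ x) :
    ∃ x : Fin (Module.finrank k (RingHom.ker (Bialgebra.counitAlgHom k E')).Cotangent) → E,
      (∀ i, counit (R := R) (x i) = 0) ∧
      RingHom.ker (Bialgebra.counitAlgHom R E) ≤ Ideal.span (Set.range x) ⊔ RingHom.ker (Bialgebra.counitAlgHom R E) ^ 2 := by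
  have hfin := finite_cot k E'
  let I' := RingHom.ker (Bialgebra.counitAlgHom k E')
  let I := RingHom.ker (Bialgebra.counitAlgHom R E)
  let b := Module.finBasis k I'.Cotangent
  have h1 : ∀ i, ∃ x : E, counit (R := R) x = 0 ∧ ∃ h : ρ x ∈ I', I'.toCotangent ⟨ρ x, h⟩ = b i := by
    intro i
    obtain ⟨⟨z, hz⟩, hzb⟩ := Ideal.toCotangent_surjective I' (b i)
    obtain ⟨w, rfl⟩ := hρ z
    have hz' : red (counit w) = 0 := by rw [← hε]; exact hz
    have hw : ρ (w - counit (R := R) w • 1) = ρ w := by rw [map_sub, hsm, hz', zero_smul, sub_zero]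
    refine ⟨w - counit (R := R) w • 1, ?_, ?_, ?_⟩
    · rw [map_sub, map_smul, Bialgebra.counit_one, smul_eq_mul, mul_one, sub_self]
    · rw [hw]; exact hz
    · rw [← hzb]
      congr 1
      exact Subtype.ext hw
  choose x hx hx' hxb using h1
  refine ⟨x, hx, ?_⟩
  have hmap : I' = I.map ρ := by
    apply le_antisymm
    · intro z hz
      obtain ⟨w, rfl⟩ := hρ z
      have hz' : red (counit w) = 0 := by rw [← hε]; exact hz
      have hw : ρ (w - counit (R := R) w • 1) = ρ w := by rw [map_sub, hsm, hz', zero_smul, sub_zero]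
      rw [← hw]
      apply Ideal.mem_map_of_mem
      change counit (R := R) (w - counit (R := R) w • 1) = 0
      rw [map_sub, map_smul, Bialgebra.counit_one, smul_eq_mul, mul_one, sub_self]
    · rw [Ideal.map_le_iff_le_comap]
      intro z hz
      change counit (R := k) (ρ z) = 0
      rw [hε]
      have hz' : counit (R := R) z = 0 := hz
      rw [hz', map_zero]
  let N : Submodule R E := (Ideal.span (Set.range x) ⊔ I ^ 2).restrictScalars R
  let M : Submodule R E := I.restrictScalars R
  have hM : M.FG := IsNoetherian.noetherian M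
  have key : M ≤ N ⊔ maximalIdeal R • M := by
    intro y hy
    have hy' : ρ y ∈ I' := by rw [hmap]; exact Ideal.mem_map_of_mem _ hy
    choose r hr using fun i => hred (b.repr (I'.toCotangent ⟨ρ y, hy'⟩) i)
    have h2 : ρ (y - ∑ i, r i • x i) ∈ (I ^ 2).map ρ := by
      rw [Ideal.map_pow, ← hmap]
      have h3 : ρ (∑ i, r i • x i) ∈ I' := by
        rw [map_sum]
        refine Ideal.sum_mem _ fun i _ => ?_
        rw [hsm, Algebra.smul_def]
        exact Ideal.mul_mem_left _ _ (hx' i)
      rw [map_sub]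
      have h4 : I'.toCotangent ⟨ρ y, hy'⟩ = I'.toCotangent ⟨ρ (∑ i, r i • x i), h3⟩ := by
        rw [← b.sum_repr (I'.toCotangent ⟨ρ y, hy'⟩)]
        have h5 : (⟨ρ (∑ i, r i • x i), h3⟩ : I') = ∑ i, red (r i) • (⟨ρ (x i), hx' i⟩ : I') := by
          apply Subtype.ext
          change ρ (∑ i, r i • x i) = I'.subtype (∑ i, red (r i) • (⟨ρ (x i), hx' i⟩ : I'))
          rw [map_sum, map_sum]
          refine Finset.sum_congr rfl fun i _ => ?_
          rw [hsm]
          rfl
        rw [h5, map_sum]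
        refine Finset.sum_congr rfl fun i _ => ?_
        have h6 := ((Ideal.toCotangent I').restrictScalars k).map_smul (red (r i)) (⟨ρ (x i), hx' i⟩ : I')
        refine Eq.trans ?_ h6.symm
        change _ = red (r i) • I'.toCotangent ⟨ρ (x i), hx' i⟩
        rw [hxb, hr]
      rw [Ideal.toCotangent_eq] at h4
      exact h4
    rw [Ideal.mem_map_iff_of_surjective ρ hρ] at h2
    obtain ⟨z, hz, hzy⟩ := h2
    obtain ⟨w, hw⟩ := hker (y - ∑ i, r i • x i - z) (by rw [map_sub, hzy, sub_self])
    have hwI : w ∈ I := by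
      have h7 := congrArg (counit (R := R) (A := E)) hw
      have hy0 : counit (R := R) y = 0 := hy
      have hz0 : counit (R := R) z = 0 := Ideal.pow_le_self two_ne_zero hz
      rw [map_sub, map_sub, map_sum, hy0, hz0, map_smul, smul_eq_mul] at h7
      have h8 : ∑ i, counit (R := R) (r i • x i) = 0 :=
        Finset.sum_eq_zero fun i _ => by rw [map_smul, hx, smul_zero]
      rw [h8, sub_zero, sub_zero] at h7
      exact (mul_eq_zero.1 h7.symm).resolve_left hϖ.ne_zero
    have h9 : y = (∑ i, r i • x i + z) + ϖ • w := by rw [← hw]; ring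
    rw [h9]
    refine Submodule.add_mem_sup ?_ ?_
    · refine Submodule.add_mem _ ?_ ?_
      · refine Submodule.sum_mem _ fun i _ => Submodule.smul_mem _ _ ?_
        exact Ideal.mem_sup_left (Ideal.subset_span ⟨i, rfl⟩)
      · exact Ideal.mem_sup_right hz
    · refine Submodule.smul_mem_smul ?_ hwI
      rw [hϖ.maximalIdeal_eq]
      exact Ideal.mem_span_singleton_self ϖ
  have h10 := Submodule.le_of_le_smul_of_le_jacobson_bot hM (IsLocalRing.maximalIdeal_le_jacobson ⊥) key
  exact fun y hy => h10 hy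

end cot

section red

variable {R : Type u} [CommRing R] [IsDomain R] [IsDiscreteValuationRing R] [CharZero R]
variable {B : Type u} [CommRing B] [HopfAlgebra R B] [Module.Finite R B] [Module.Free R B]

theorem counit_one_tmul (x : B) : counit (R := ResidueField R) ((1 : ResidueField R) ⊗ₜ[R] x) = residue R (counit x) := by
  have h1 := congrArg (fun t => t x)
    (Bialgebra.counitAlgHom_comp_includeRight (R := R) (A := ResidueField R) (B := B))
  exact h1

/-- generators of the augmentation ideal modulo its square. -/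
theorem exists_gens_self (ϖ : R) (hϖ : Irreducible ϖ) :
    ∃ x : Fin (Module.finrank (ResidueField R) (RingHom.ker (Bialgebra.counitAlgHom (ResidueField R)
      (ResidueField R ⊗[R] B))).Cotangent) → B,
      (∀ i, counit (R := R) (x i) = 0) ∧
      RingHom.ker (Bialgebra.counitAlgHom R B) ≤ Ideal.span (Set.range x) ⊔ RingHom.ker (Bialgebra.counitAlgHom R B) ^ 2 := by
  refine exists_gens (residue R) residue_surjective (E' := ResidueField R ⊗[R] B) ϖ hϖ
    ((Algebra.TensorProduct.includeRight : B →ₐ[R] ResidueField R ⊗[R] B) : B →+* ResidueField R ⊗[R] B) ?_ ?_ ?_ ?_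
  · intro y
    exact exists_tmul y
  · intro x hx
    exact exists_of_tmul_eq_zero ϖ hϖ x hx
  · intro x
    exact counit_one_tmul x
  · intro r x
    change (1 : ResidueField R) ⊗ₜ[R] (r • x) = residue R r • ((1 : ResidueField R) ⊗ₜ[R] x)
    rw [tmul_smul, smul_tmul', smul_tmul', Algebra.smul_def, smul_eq_mul]
    rfl

/-- reduction of linear forms. -/
noncomputable def redL (φ : B →ₗ[R] R) : ResidueField R ⊗[R] B →ₗ[ResidueField R] ResidueField R :=
  ((Algebra.linearMap R (ResidueField R)) ∘ₗ φ).liftBaseChange (ResidueField R)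

theorem redL_one_tmul (φ : B →ₗ[R] R) (b : B) : redL φ (1 ⊗ₜ b) = residue R (φ b) := by
  rw [redL, LinearMap.liftBaseChange_tmul, one_smul]
  rfl

theorem redL_ext {f g : ResidueField R ⊗[R] B →ₗ[ResidueField R] ResidueField R}
    (h : ∀ b : B, f (1 ⊗ₜ b) = g (1 ⊗ₜ b)) : f = g := by
  apply LinearMap.ext
  intro z
  obtain ⟨b, rfl⟩ := exists_tmul z
  exact h b

/-- the reduction of the dual algebra. -/
noncomputable def redD : CartDual.D R B →+* CartDual.D (ResidueField R) (ResidueField R ⊗[R] B) where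
  toFun φ := toConv (redL φ.ofConv)
  map_zero' := by
    apply WithConv.ofConv_injective
    apply redL_ext
    intro b
    rw [ofConv_toConv, redL_one_tmul]
    change residue R 0 = 0
    rw [map_zero]
  map_add' φ ψ := by
    apply WithConv.ofConv_injective
    apply redL_ext
    intro b
    rw [ofConv_toConv, redL_one_tmul]
    change residue R (φ.ofConv b + ψ.ofConv b) = redL φ.ofConv (1 ⊗ₜ b) + redL ψ.ofConv (1 ⊗ₜ b)
    rw [redL_one_tmul, redL_one_tmul, map_add]
  map_one' := by
    apply WithConv.ofConv_injective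
    apply redL_ext
    intro b
    rw [ofConv_toConv, redL_one_tmul]
    exact (counit_one_tmul b).symm
  map_mul' φ ψ := by
    apply WithConv.ofConv_injective
    apply redL_ext
    intro b
    rw [ofConv_toConv, redL_one_tmul]
    let r := Coalgebra.Repr.arbitrary R b
    have h1 := congrArg (fun t => t b) (Bialgebra.comul_includeRight (R := R) (A := ResidueField R) (B := B))
    have h2 : comul (R := ResidueField R) ((1 : ResidueField R) ⊗ₜ[R] b) = ∑ i ∈ r.index,
        ((1 : ResidueField R) ⊗ₜ[R] r.left i) ⊗ₜ[ResidueField R] ((1 : ResidueField R) ⊗ₜ[R] r.right i) := by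
      refine h1.trans ?_
      rw [RingHom.comp_apply]
      have h0 : (RingHomClass.toRingHom (Bialgebra.comulAlgHom R B)) b =
        ∑ i ∈ r.index, r.left i ⊗ₜ[R] r.right i := r.eq.symm
      rw [h0, map_sum]
      refine Finset.sum_congr rfl fun i _ => ?_
      rw [Algebra.TensorProduct.mapRingHom_tmul]
      rfl
    have h3 : (φ * ψ).ofConv b = ∑ i ∈ r.index, φ.ofConv (r.left i) * ψ.ofConv (r.right i) :=
      r.convMul_apply φ ψ
    rw [h3]
    change _ = LinearMap.mul' _ _ (TensorProduct.map (redL φ.ofConv) (redL ψ.ofConv)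
      (comul (R := ResidueField R) ((1 : ResidueField R) ⊗ₜ[R] b)))
    rw [h2, map_sum, map_sum, map_sum]
    refine Finset.sum_congr rfl fun i _ => ?_
    rw [TensorProduct.map_tmul, LinearMap.mul'_apply, redL_one_tmul, redL_one_tmul, map_mul]

theorem exists_gens_dual [Coalgebra.IsCocomm R B] (ϖ : R) (hϖ : Irreducible ϖ) :
    ∃ x : Fin (Module.finrank (ResidueField R) (RingHom.ker (Bialgebra.counitAlgHom (ResidueField R)
      (CartDual.D (ResidueField R) (ResidueField R ⊗[R] B)))).Cotangent) → CartDual.D R B,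
      (∀ i, counit (R := R) (x i) = 0) ∧
      RingHom.ker (Bialgebra.counitAlgHom R (CartDual.D R B)) ≤
        Ideal.span (Set.range x) ⊔ RingHom.ker (Bialgebra.counitAlgHom R (CartDual.D R B)) ^ 2 := by
  have hfree : Module.Free R (CartDual.D R B) := Module.Free.of_equiv (CartDual.toDual R B).symm
  let e := Module.Free.chooseBasis R B
  have hm : maximalIdeal R = Ideal.span {ϖ} := hϖ.maximalIdeal_eq
  refine exists_gens (residue R) residue_surjective (E' := CartDual.D (ResidueField R) (ResidueField R ⊗[R] B)) ϖ hϖ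
    redD ?_ ?_ ?_ ?_
  · intro ψ
    choose c hc using fun i => residue_surjective (R := R) (ψ.ofConv (1 ⊗ₜ e i))
    refine ⟨toConv (e.constr R c), ?_⟩
    apply WithConv.ofConv_injective
    change redL (e.constr R c) = ψ.ofConv
    apply redL_ext
    intro b
    rw [redL_one_tmul]
    have h1 : (Algebra.linearMap R (ResidueField R)) ∘ₗ (e.constr R c) =
        (ψ.ofConv.restrictScalars R) ∘ₗ ((Algebra.TensorProduct.includeRight : B →ₐ[R] ResidueField R ⊗[R] B) :
          B →ₗ[R] ResidueField R ⊗[R] B) := by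
      apply e.ext
      intro i
      change residue R (e.constr R c (e i)) = ψ.ofConv (1 ⊗ₜ e i)
      rw [Module.Basis.constr_basis, hc]
    exact LinearMap.congr_fun h1 b
  · intro φ hφ
    have h1 : ∀ i, ∃ c, φ.ofConv (e i) = ϖ * c := by
      intro i
      have h2 := congrArg (fun t : CartDual.D (ResidueField R) (ResidueField R ⊗[R] B) => t.ofConv (1 ⊗ₜ e i)) hφ
      change redL φ.ofConv (1 ⊗ₜ e i) = 0 at h2
      rw [redL_one_tmul, residue_eq_zero_iff, hm] at h2
      exact Ideal.mem_span_singleton.1 h2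
    choose c hc using h1
    refine ⟨toConv (e.constr R c), ?_⟩
    apply WithConv.ofConv_injective
    apply e.ext
    intro i
    rw [hc]
    change ϖ * c i = ϖ • (e.constr R c (e i))
    rw [Module.Basis.constr_basis, smul_eq_mul]
  · intro φ
    change redL φ.ofConv (1 : ResidueField R ⊗[R] B) = residue R (φ.ofConv 1)
    exact redL_one_tmul φ.ofConv 1
  · intro r φ
    apply WithConv.ofConv_injective
    apply redL_ext
    intro b
    change redL (r • φ.ofConv) (1 ⊗ₜ b) = residue R r • redL φ.ofConv (1 ⊗ₜ b)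
    rw [redL_one_tmul, redL_one_tmul, LinearMap.smul_apply, smul_eq_mul, map_mul, smul_eq_mul]

end red

section main

variable (R : Type u) [CommRing R] [IsDomain R] [IsDiscreteValuationRing R] [CharZero R]

/-- **The dimension of the special fibre depends only on the generic fibre** (no completeness). -/
theorem trI_le [IsAlgClosed (ResidueField R)] (p h : ℕ) [hp : Fact p.Prime] (hpm : (p : R) ∈ maximalIdeal R)
    (Φ Φ' : Sys R p h) (u : ∀ n, Φ'.B n →ₐc[R] Φ.B n) (hu : ∀ n, Function.Injective (u n))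
    (ht : ∀ n (b : Φ.B n), ∃ r : R, r ≠ 0 ∧ ∃ a, u n a = r • b) : trI R (Φ.B 1) ≤ trI R (Φ'.B 1) := by
  set k := ResidueField R
  have hpk : (p : k) = 0 := by
    have h1 : residue R (p : R) = 0 := (residue_eq_zero_iff _).2 hpm
    rw [map_natCast] at h1
    exact h1
  have hcp : CharP k p := (CharP.charP_iff_prime_eq_zero hp.out).2 hpk
  obtain ⟨ϖ, hϖ⟩ := IsDiscreteValuationRing.exists_irreducible R
  have hp0 : (p : R) ≠ 0 := by exact_mod_cast hp.out.ne_zero
  obtain ⟨e, ε, he⟩ := IsDiscreteValuationRing.eq_unit_mul_pow_irreducible hp0 hϖ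
  let Ψ : Sys k p h := Φ.bc k
  let Ψ' : Sys k p h := Φ'.bc k
  have h1 : dF Ψ' ≤ dF Ψ := by
    refine dF_le Ψ Ψ' (fun n => bcHom k (u n)) (e * h) (fun n j hj y hy => ?_)
    obtain ⟨g, rfl⟩ := exists_tmul y
    have hy' : (1 : k) ⊗ₜ[R] (u n g) = 0 := hy
    obtain ⟨y', hy'⟩ := exists_of_tmul_eq_zero ϖ hϖ _ hy'
    have hN : ¬ ϖ ^ (p ^ j) ∣ ((Module.finrank R (Φ'.B n) : ℕ) : R) := by
      rw [Φ'.rank, Nat.cast_pow, he, mul_pow, ← pow_mul, ← Units.val_pow_eq_pow_val, Units.dvd_mul_left,
        pow_dvd_pow_iff hϖ.ne_zero hϖ.not_isUnit]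
      have : e * (n * h) = e * h * n := by ring
      omega
    obtain ⟨a, ha⟩ := pow_mem (u n : Φ'.B n →ₐ[R] Φ.B n) (hu n) (ht n) ϖ hϖ (p ^ j) hN g ⟨y', hy'⟩
    change ((1 : k) ⊗ₜ[R] g) ^ (p ^ j) = 0
    rw [Algebra.TensorProduct.tmul_pow, ha, one_pow, tmul_smul, smul_tmul', Algebra.smul_def]
    have h2 : algebraMap R k ϖ = 0 := (residue_eq_zero_iff _).2 ((mem_maximalIdeal _).2 hϖ.not_isUnit)
    rw [h2, zero_mul, zero_tmul]
  have hc1 : CharP (CartDual.D k (Ψ.B 1)) p := Groth.Agent.Sga3C.HopfPow.charP_of_hopf k _ p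
  have h2 := dF_mul_le Ψ
  have h3 := pow_cot_le (k := k) (p := p) (C := Ψ'.B 1)
  have h4 := pow_cot_le (k := k) (p := p) (C := CartDual.D k (Ψ.B 1))
  set s' := Module.finrank k (RingHom.ker (Bialgebra.counitAlgHom k (Ψ'.B 1))).Cotangent with hs'
  set s := Module.finrank k (RingHom.ker (Bialgebra.counitAlgHom k (CartDual.D k (Ψ.B 1)))).Cotangent with hs
  have h5 : s' + s ≤ h := by
    have h6 : p ^ (s' + s) ≤ p ^ h := by
      rw [pow_add]
      exact (Nat.mul_le_mul (h3.trans h1) h4).trans h2
    exact (Nat.pow_le_pow_iff_right hp.out.one_lt).1 h6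
  obtain ⟨x', hx', hg'⟩ := exists_gens_self (R := R) (B := Φ'.B 1) ϖ hϖ
  obtain ⟨x, hx, hg⟩ := exists_gens_dual (R := R) (B := Φ.B 1) ϖ hϖ
  have h7 := nLen R (Φ'.B 1) s' x' (fun _ => (p : R)) hx' hg' (fun i => by
    have := K497.Layers.pow_smul_mem Φ' 1 (x := x' i) (hx' i)
    rw [pow_one] at this
    exact this)
  have hfree : Module.Free R (CartDual.D R (Φ.B 1)) := Module.Free.of_equiv (CartDual.toDual R (Φ.B 1)).symm
  have h8 := nLen R (CartDual.D R (Φ.B 1)) s x (fun _ => (p : R)) hx hg (fun i => by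
    have := K497.Layers.pow_smul_mem (Φ.dual) 1 (x := x i) (hx i)
    rw [pow_one] at this
    exact this)
  rw [Finset.prod_const, Finset.card_fin] at h7 h8
  have h9 := nDual R (Φ.B 1)
  rw [Φ.rank, one_mul] at h9
  intro z hz
  have h10 : z * (p : R) ^ s ∈ Ideal.span {((p ^ h : ℕ) : R)} := by
    rw [← h9]
    exact Ideal.mul_mem_mul hz h8
  obtain ⟨w, hw⟩ := Ideal.mem_span_singleton.1 h10
  have h11 : z = (p : R) ^ s' * ((p : R) ^ (h - s' - s) * w) := by
    apply mul_right_cancel₀ (pow_ne_zero s hp0)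
    rw [hw, Nat.cast_pow]
    have h12 : (p : R) ^ h = (p : R) ^ s' * (p : R) ^ (h - s' - s) * (p : R) ^ s := by
      rw [← pow_add, ← pow_add]
      congr 1
      omega
    rw [h12]
    ring
  rw [h11]
  exact Ideal.mul_mem_right _ _ h7

/-- the node `NDim`. -/
theorem main : NDim.{u} := by
  intro R _ _ _ _ _ _ p h _ hpm Φ Φ' u hu ht _ _
  exact trI_le R p h hpm Φ Φ' u hu ht

end main

end K543.TateDim
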