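import Groth.Agent.SGA7.K564.Tate.Defs
import Mathlib.FieldTheory.Perfect
import Mathlib.Algebra.CharP.Frobenius
import Mathlib.LinearAlgebra.Basis.VectorSpace

/-!
# Multiplication by `p` on commutative cocommutative bialgebras in characteristic `p`
-/

set_option autoImplicit false
set_option linter.unusedSectionVars false
universe u v w

open TensorProduct WithConv Coalgebra

namespace K543.Tate

section Lin

variable {k : Type u} [Field k] {p : ℕ} [hp : Fact p.Prime] [CharP k p]
variable {C : Type v} [AddCommGroup C] [Module k C] [Coalgebra k C]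
variable {H : Type w} [CommRing H] [Algebra k H]

/-- the linear map `x ↦ φ(x) h`. -/
noncomputable def el (φ : WithConv (C →ₗ[k] k)) (h : H) : WithConv (C →ₗ[k] H) :=
  toConv (φ.ofConv.smulRight h)

theorem el_apply (φ : WithConv (C →ₗ[k] k)) (h : H) (x : C) : (el φ h).ofConv x = φ.ofConv x • h := rfl

theorem el_one : el (1 : WithConv (C →ₗ[k] k)) (1 : H) = 1 := by
  apply WithConv.ofConv_injective
  apply LinearMap.ext
  intro x
  change (1 : WithConv (C →ₗ[k] k)) x • (1 : H) = (1 : WithConv (C →ₗ[k] H)) x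
  rw [LinearMap.convOne_apply, LinearMap.convOne_apply, Algebra.smul_def, mul_one]
  rfl

theorem el_mul (φ ψ : WithConv (C →ₗ[k] k)) (g h : H) : el φ g * el ψ h = el (φ * ψ) (g * h) := by
  apply WithConv.ofConv_injective
  apply LinearMap.ext
  intro x
  change (el φ g * el ψ h) x = (φ * ψ) x • (g * h)
  rw [(Coalgebra.Repr.arbitrary k x).convMul_apply, (Coalgebra.Repr.arbitrary k x).convMul_apply, Finset.sum_smul]
  refine Finset.sum_congr rfl fun i _ => ?_
  change (φ.ofConv _ • g) * (ψ.ofConv _ • h) = _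
  rw [smul_mul_smul_comm]

theorem el_pow (φ : WithConv (C →ₗ[k] k)) (h : H) (n : ℕ) : (el φ h) ^ n = el (φ ^ n) (h ^ n) := by
  induction n with
  | zero => rw [pow_zero, pow_zero, pow_zero, el_one]
  | succ n ih => rw [pow_succ, ih, el_mul, ← pow_succ, ← pow_succ]

theorem el_sum {ι : Type*} [Fintype ι] (b : Module.Basis ι k C) (t : WithConv (C →ₗ[k] H)) :
    t = ∑ i, el (toConv (b.coord i)) (t.ofConv (b i)) := by
  classical
  apply WithConv.ofConv_injective
  apply b.ext
  intro j
  rw [WithConv.ofConv_sum, LinearMap.sum_apply, Finset.sum_eq_single j]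
  · rw [el_apply]; simp
  · intro i _ hij
    rw [el_apply]
    simp [hij.symm]
  · intro h; exact absurd (Finset.mem_univ _) h

/-- `t^p(z) = ∑ (b_i^*)^p(z) t(b_i)^p` in characteristic `p`. -/
theorem pow_char_apply [IsCocomm k C] (hc : Nontrivial (WithConv (C →ₗ[k] H))) {ι : Type*} [Fintype ι]
    (b : Module.Basis ι k C) (t : WithConv (C →ₗ[k] H)) (z : C) :
    (t ^ p).ofConv z = ∑ i, ((toConv (b.coord i) : WithConv (C →ₗ[k] k)) ^ p).ofConv z • (t.ofConv (b i)) ^ p := by
  have : CharP (WithConv (C →ₗ[k] H)) p :=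
    charP_of_injective_algebraMap (algebraMap k (WithConv (C →ₗ[k] H))).injective p
  conv_lhs => rw [el_sum b t, sum_pow_char p]
  rw [WithConv.ofConv_sum, LinearMap.sum_apply]
  refine Finset.sum_congr rfl fun i _ => ?_
  rw [el_pow, el_apply]

end Lin

section Bi

variable {k : Type u} [Field k] {p : ℕ} [hp : Fact p.Prime] [CharP k p]
variable {H : Type v} [CommRing H] [Bialgebra k H] [IsCocomm k H] [Module.Finite k H]
variable {H' : Type w} [CommRing H'] [Bialgebra k H'] [IsCocomm k H'] [Module.Finite k H']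

theorem nontrivial_of_bialg (k : Type u) [Field k] (H : Type v) [CommRing H] [Bialgebra k H] : Nontrivial H :=
  (Bialgebra.counitAlgHom k H).toRingHom.domain_nontrivial

theorem nontrivial_conv (k : Type u) [Field k] (H : Type v) [CommRing H] [Bialgebra k H]
    (H' : Type w) [CommRing H'] [Algebra k H'] [Nontrivial H'] : Nontrivial (WithConv (H →ₗ[k] H')) := by
  refine ⟨⟨1, 0, ?_⟩⟩
  intro h
  have h1 := congrArg (fun t : WithConv (H →ₗ[k] H') => t.ofConv (1 : H)) h
  change algebraMap k H' (counit (1 : H)) = 0 at h1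
  rw [Bialgebra.counit_one, map_one] at h1
  exact one_ne_zero h1

variable (k p H) in
/-- multiplication by `p`. -/
noncomputable def mulp : H →ₐc[k] H := ((toConv (BialgHom.id k H)) ^ p).ofConv

variable (k p H) in
omit hp [CharP k p] [Module.Finite k H] in
theorem mulp_lin : toConv ((mulp k p H : H →ₐc[k] H) : H →ₗ[k] H) = (toConv (LinearMap.id : H →ₗ[k] H)) ^ p :=
  BialgHom.toLinearMap_convPow (toConv (BialgHom.id k H)) p

/-- convolution powers and composition with a coalgebra map. -/
theorem convPow_comp {A : Type*} [CommRing A] [Algebra k A] (t : WithConv (H' →ₗ[k] A)) (f : H →ₐc[k] H') (n : ℕ) :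
    (t ^ n).ofConv ∘ₗ (f : H →ₗ[k] H') = ((toConv (t.ofConv ∘ₗ (f : H →ₗ[k] H'))) ^ n).ofConv := by
  induction n with
  | zero =>
    rw [pow_zero, pow_zero]
    apply LinearMap.ext
    intro x
    change algebraMap k A (counit (f x)) = algebraMap k A (counit x)
    rw [CoalgHomClass.counit_comp_apply]
  | succ n ih =>
    rw [pow_succ, pow_succ]
    refine (LinearMap.convMul_comp_coalgHom_distrib (t ^ n) t (f : H →ₗc[k] H')).trans ?_
    congr 1
    congr 1
    exact congrArg toConv ih

/-- image of the convolution power of a linear map under an algebra map. -/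
theorem mulp_comp (f : H →ₐc[k] H') (x : H) : f (mulp k p H x) = mulp k p H' (f x) := by
  have h1 := convPow_comp (k := k) (toConv (LinearMap.id : H' →ₗ[k] H')) f p
  have h2 : ∀ n : ℕ, (toConv ((f : H →ₗ[k] H') ∘ₗ (LinearMap.id : H →ₗ[k] H))) ^ n =
      toConv ((f : H →ₗ[k] H') ∘ₗ ((toConv (LinearMap.id : H →ₗ[k] H)) ^ n).ofConv) := by
    intro n
    induction n with
    | zero =>
      rw [pow_zero, pow_zero]
      apply WithConv.ofConv_injective
      apply LinearMap.ext
      intro x
      change algebraMap k H' (counit x) = f (algebraMap k H (counit x))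
      exact (AlgHomClass.commutes f _).symm
    | succ n ih =>
      rw [pow_succ, pow_succ, ih]
      apply WithConv.ofConv_injective
      exact (LinearMap.algHom_comp_convMul_distrib (f : H →ₐ[k] H') _ _).symm
  have h3 := congrArg (fun t => t x) h1
  have h4 := congrArg (fun t : WithConv (H →ₗ[k] H') => t.ofConv x) (h2 p)
  have h5 := congrArg (fun t : WithConv (H →ₗ[k] H) => t.ofConv x) (mulp_lin k p H)
  have h6 := congrArg (fun t : WithConv (H' →ₗ[k] H') => t.ofConv (f x)) (mulp_lin k p H')
  change f ((mulp k p H : H →ₐc[k] H) x) = (mulp k p H' : H' →ₐc[k] H') (f x)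
  change ((mulp k p H : H →ₐc[k] H) x) = _ at h5
  change ((mulp k p H' : H' →ₐc[k] H') (f x)) = _ at h6
  rw [h5, h6]
  exact h4.symm.trans h3.symm

/-- a linear generalized inverse. -/
theorem exists_gen_inverse {V : Type v} {W : Type w} [AddCommGroup V] [Module k V] [AddCommGroup W] [Module k W]
    (u : V →ₗ[k] W) : ∃ g : W →ₗ[k] V, ∀ x, u (g (u x)) = u x := by
  obtain ⟨s, hs⟩ := LinearMap.exists_rightInverse_of_surjective u.rangeRestrict (LinearMap.range_rangeRestrict u)
  obtain ⟨g, hg⟩ := LinearMap.exists_extend s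
  refine ⟨g, fun x => ?_⟩
  have h1 : g (u x) = s (u.rangeRestrict x) := congrArg (fun t => t (u.rangeRestrict x)) hg
  rw [h1]
  have h2 := congrArg (fun t => t (u.rangeRestrict x)) hs
  exact congrArg Subtype.val h2

/-- the key lemma: if all `p`-th powers of linear forms vanish at `u x` then `p x` is a combination of `p`-th
powers of elements of the kernel of `u`. -/
theorem mulp_mem_span (u : H →ₐc[k] H') (x : H) (hx : ∀ φ : WithConv (H' →ₗ[k] k), (φ ^ p).ofConv (u x) = 0) :
    mulp k p H x ∈ Submodule.span k {z : H | ∃ y, u y = 0 ∧ z = y ^ p} := by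
  have : Nontrivial H := nontrivial_of_bialg k H
  obtain ⟨g, hg⟩ := exists_gen_inverse (u : H →ₗ[k] H')
  let Q : WithConv (H →ₗ[k] H) := toConv (g ∘ₗ (u : H →ₗ[k] H'))
  let P : WithConv (H →ₗ[k] H) := toConv (LinearMap.id - g ∘ₗ (u : H →ₗ[k] H'))
  have hPQ : toConv (LinearMap.id : H →ₗ[k] H) = P + Q := by
    apply WithConv.ofConv_injective
    change LinearMap.id = (LinearMap.id - g ∘ₗ (u : H →ₗ[k] H')) + g ∘ₗ (u : H →ₗ[k] H')
    rw [sub_add_cancel]
  have hP : ∀ y, u (P.ofConv y) = 0 := by
    intro y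
    change u (y - g (u y)) = 0
    rw [map_sub, sub_eq_zero]
    exact (hg y).symm
  have hc : Nontrivial (WithConv (H →ₗ[k] H)) := nontrivial_conv k H H
  have : CharP (WithConv (H →ₗ[k] H)) p :=
    charP_of_injective_algebraMap (algebraMap k (WithConv (H →ₗ[k] H))).injective p
  have h5 := congrArg (fun t : WithConv (H →ₗ[k] H) => t.ofConv x) (mulp_lin k p H)
  change (mulp k p H : H →ₐc[k] H) x = _ at h5
  rw [h5, hPQ, add_pow_char]
  change (P ^ p).ofConv x + (Q ^ p).ofConv x ∈ _
  have hQ : (Q ^ p).ofConv x = 0 := by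
    have h6 := convPow_comp (k := k) (toConv g) u p
    have h7 := congrArg (fun t => t x) h6
    change ((toConv g) ^ p).ofConv (u x) = (Q ^ p).ofConv x at h7
    rw [← h7, pow_char_apply (nontrivial_conv k H' H) (Module.finBasis k H')]
    refine Finset.sum_eq_zero fun i _ => ?_
    rw [hx, zero_smul]
  rw [hQ, add_zero, pow_char_apply (nontrivial_conv k H H) (Module.finBasis k H)]
  refine Submodule.sum_mem _ fun i _ => Submodule.smul_mem _ _ (Submodule.subset_span ⟨_, hP _, rfl⟩)

theorem mulp_mem_span_of_ker (u : H →ₐc[k] H') (x : H) (hx : u x = 0) :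
    mulp k p H x ∈ Submodule.span k {z : H | ∃ y, u y = 0 ∧ z = y ^ p} := by
  apply mulp_mem_span
  intro φ
  rw [hx, map_zero]

/-- iterated. -/
theorem mulp_iterate_mem (u : H →ₐc[k] H') (j : ℕ) : ∀ (x : H), u x = 0 →
    (mulp k p H)^[j] x ∈ Submodule.span k {z : H | ∃ y, u y = 0 ∧ z = y ^ (p ^ j)} := by
  have hcp : CharP H p := by
    have : Nontrivial H := nontrivial_of_bialg k H
    exact charP_of_injective_algebraMap (algebraMap k H).injective p
  induction j with
  | zero =>
    intro x hx
    exact Submodule.subset_span ⟨x, hx, by simp⟩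
  | succ j ih =>
    intro x hx
    rw [Function.iterate_succ_apply]
    have key : ∀ z ∈ Submodule.span k {z : H | ∃ y, u y = 0 ∧ z = y ^ p},
        (mulp k p H)^[j] z ∈ Submodule.span k {z : H | ∃ y, u y = 0 ∧ z = y ^ (p ^ (j + 1))} := by
      intro z hz
      have hlin : ∀ a, (mulp k p H)^[j] a = (((mulp k p H : H →ₐc[k] H) : H →ₐ[k] H) ^ j) a := by
        intro a
        rw [AlgHom.coe_pow]
        rfl
      induction hz using Submodule.span_induction with
      | mem z hz =>
        obtain ⟨y, hy, rfl⟩ := hz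
        rw [hlin, map_pow, ← hlin]
        have h1 := ih y hy
        generalize (mulp k p H)^[j] y = y₁ at h1
        induction h1 using Submodule.span_induction with
        | mem w hw =>
          obtain ⟨y', hy', rfl⟩ := hw
          exact Submodule.subset_span ⟨y', hy', by rw [← pow_mul, pow_succ]⟩
        | zero => rw [zero_pow hp.out.ne_zero]; exact zero_mem _
        | add a b _ _ ha hb => rw [add_pow_char]; exact add_mem ha hb
        | smul c a _ ha => rw [smul_pow]; exact Submodule.smul_mem _ _ ha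
      | zero => rw [hlin, map_zero]; exact zero_mem _
      | add a b _ _ ha hb => rw [hlin, map_add, ← hlin, ← hlin]; exact add_mem ha hb
      | smul c a _ ha => rw [hlin, map_smul, ← hlin]; exact Submodule.smul_mem _ _ ha
    exact key _ (mulp_mem_span_of_ker u x hx)

/-- if the kernel of `u` is killed by `y ↦ y^(p^j)` then it is killed by the multiplication by `p^j`. -/
theorem mulp_iterate_eq_zero (u : H →ₐc[k] H') (j : ℕ) (hu : ∀ y, u y = 0 → y ^ (p ^ j) = 0) (x : H) (hx : u x = 0) :
    (mulp k p H)^[j] x = 0 := by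
  have h := mulp_iterate_mem (p := p) u j x hx
  have h2 : Submodule.span k {z : H | ∃ y, u y = 0 ∧ z = y ^ (p ^ j)} ≤ ⊥ := by
    rw [Submodule.span_le]
    rintro z ⟨y, hy, rfl⟩
    exact hu y hy
  exact h2 h

end Bi

section Perf

variable {k : Type u} [Field k] {p : ℕ} [hp : Fact p.Prime] [CharP k p] [PerfectRing k p]
variable {H : Type v} [CommRing H] [Bialgebra k H] [IsCocomm k H] [Module.Finite k H]

/-- `φ^p(x^p) = φ(p x)^p`. -/
theorem pow_apply_pow (φ : WithConv (H →ₗ[k] k)) (x : H) :
    (φ ^ p).ofConv (x ^ p) = (φ.ofConv (mulp k p H x)) ^ p := by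
  have : Nontrivial H := nontrivial_of_bialg k H
  have hcp : CharP H p := charP_of_injective_algebraMap (algebraMap k H).injective p
  let ψ₀ : H →ₗ[k] k :=
    { toFun := fun x => (frobeniusEquiv k p).symm (φ.ofConv (x ^ p))
      map_add' := fun x y => by rw [add_pow_char, map_add, map_add]
      map_smul' := fun c x => by
        rw [smul_pow, map_smul, smul_eq_mul, map_mul, RingHom.id_apply, smul_eq_mul]
        congr 1
        exact frobeniusEquiv_symm_apply_frobenius k p c }
  let ψ : WithConv (H →ₗ[k] k) := toConv ψ₀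
  have hψ : ∀ x, (ψ.ofConv x) ^ p = φ.ofConv (x ^ p) := fun x => frobeniusEquiv_symm_pow_p k p _
  have hmul : ∀ (α β α' β' : WithConv (H →ₗ[k] k)), (∀ x, (α.ofConv x) ^ p = α'.ofConv (x ^ p)) →
      (∀ x, (β.ofConv x) ^ p = β'.ofConv (x ^ p)) → ∀ x, ((α * β).ofConv x) ^ p = (α' * β').ofConv (x ^ p) := by
    intro α β α' β' hα hβ x
    let r := Coalgebra.Repr.arbitrary k x
    have h1 : (α * β).ofConv x = ∑ i ∈ r.index, α.ofConv (r.left i) * β.ofConv (r.right i) :=
      r.convMul_apply α β
    have hcc : CharP (H ⊗[k] H) p := by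
      have : Nontrivial (H ⊗[k] H) := nontrivial_of_bialg k (H ⊗[k] H)
      exact charP_of_injective_algebraMap (algebraMap k (H ⊗[k] H)).injective p
    have h2 : comul (R := k) (x ^ p) = ∑ i ∈ r.index, (r.left i ^ p) ⊗ₜ[k] (r.right i ^ p) := by
      rw [Bialgebra.comul_pow, ← r.eq, sum_pow_char p]
      simp only [Algebra.TensorProduct.tmul_pow]
    have h3 : (α' * β').ofConv (x ^ p) = ∑ i ∈ r.index, α'.ofConv (r.left i ^ p) * β'.ofConv (r.right i ^ p) := by
      change LinearMap.mul' k k (TensorProduct.map α'.ofConv β'.ofConv (comul (x ^ p))) = _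
      rw [h2]
      simp
    rw [h1, h3, sum_pow_char p]
    refine Finset.sum_congr rfl fun i _ => ?_
    rw [mul_pow, hα, hβ]
  have hpow : ∀ (n : ℕ) (x : H), ((ψ ^ n).ofConv x) ^ p = (φ ^ n).ofConv (x ^ p) := by
    intro n
    induction n with
    | zero =>
      intro x
      rw [pow_zero, pow_zero]
      change (algebraMap k k (counit x)) ^ p = algebraMap k k (counit (x ^ p))
      have h9 : counit (R := k) (x ^ p) = (counit (R := k) x) ^ p := map_pow (Bialgebra.counitAlgHom k H) x p
      rw [h9]
      rfl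
    | succ n ih =>
      rw [pow_succ, pow_succ]
      exact hmul _ _ _ _ ih hψ
  rw [← hpow]
  congr 1
  rw [pow_char_apply (nontrivial_conv k H k) (Module.finBasis k H)]
  have h5 := congrArg (fun t : WithConv (H →ₗ[k] H) => t.ofConv x) (mulp_lin k p H)
  change (mulp k p H : H →ₐc[k] H) x = _ at h5
  rw [h5]
  rw [pow_char_apply (nontrivial_conv k H H) (Module.finBasis k H), map_sum]
  refine Finset.sum_congr rfl fun i _ => ?_
  rw [map_smul, hψ]
  rfl

/-- `x^p = 0` implies `p x = 0`. -/
theorem mulp_eq_zero_of_pow (x : H) (hx : x ^ p = 0) : mulp k p H x = 0 := by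
  have h : ∀ φ : H →ₗ[k] k, φ (mulp k p H x) = 0 := by
    intro φ
    have h1 := pow_apply_pow (toConv φ) x
    rw [hx, map_zero] at h1
    exact pow_eq_zero_iff hp.out.ne_zero |>.1 h1.symm
  exact (Module.forall_dual_apply_eq_zero_iff k _).1 h

end Perf

end K543.Tate
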