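import Groth.Agent.SGA7.K543.PowId
import Groth.Agent.MiscA.HopfRange
import Groth.Agent.Sga3C.HopfPowTransl
import Groth.Agent.Sga3C.HopfPowFrob
import Mathlib.RingTheory.LocalRing.Module
import Mathlib.LinearAlgebra.FreeModule.StrongRankCondition
import Mathlib.LinearAlgebra.Dimension.FreeAndStrongRankCondition
import Mathlib.RingTheory.TensorProduct.Quotient
import Mathlib.RingTheory.Artinian.Module

/-!
# Multiplicativity of the rank for finite commutative Hopf algebras over an algebraically closed field
-/

set_option autoImplicit false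
set_option linter.unusedSectionVars false
universe u v w

open TensorProduct WithConv Coalgebra

namespace K543.Tate

open Groth.Agent.Sga3C.HopfPow

variable {k : Type u} [Field k] [IsAlgClosed k]
variable {H : Type v} [CommRing H] [HopfAlgebra k H] [Module.Finite k H]
variable {H' : Type w} [CommRing H'] [HopfAlgebra k H'] [Module.Finite k H']

omit [IsAlgClosed k] [Module.Finite k H] [Module.Finite k H'] in
/-- translations and bialgebra maps. -/
theorem transl_comp_bialg (f : H →ₐc[k] H') (x : WithConv (H' →ₐ[k] k)) (h : H) :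
    transl x (f h) = f (transl (toConv (x.ofConv.comp (f : H →ₐ[k] H'))) h) := by
  have h1 := AlgHom.convMul_comp_bialgHom_distrib (R := k)
    (toConv ((Algebra.ofId k H').comp x.ofConv)) (toConv (AlgHom.id k H')) f
  have h2 := AlgHom.comp_convMul_distrib (R := k) (f : H →ₐ[k] H')
    (toConv ((Algebra.ofId k H).comp (x.ofConv.comp (f : H →ₐ[k] H')))) (toConv (AlgHom.id k H))
  have h3 : (f : H →ₐ[k] H').comp ((Algebra.ofId k H).comp (x.ofConv.comp (f : H →ₐ[k] H'))) =
      ((Algebra.ofId k H').comp x.ofConv).comp (f : H →ₐ[k] H') := by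
    apply AlgHom.ext
    intro a
    change f (algebraMap k H _) = algebraMap k H' _
    exact AlgHomClass.commutes f _
  have h4 := congrArg (fun t : H →ₐ[k] H' => t h) h1
  have h5 := congrArg (fun t : H →ₐ[k] H' => t h) h2
  refine h4.trans (Eq.trans ?_ h5.symm)
  change (toConv _ * toConv _ : WithConv (H →ₐ[k] H')).ofConv h = (toConv _ * toConv _ : WithConv (H →ₐ[k] H')).ofConv h
  rw [ofConv_toConv, ofConv_toConv, h3]
  rfl

omit [IsAlgClosed k] [Module.Finite k H] [Module.Finite k H'] in
theorem finrank_quot_ker (f : H →ₐc[k] H') (x : WithConv (H' →ₐ[k] k)) :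
    Module.finrank k (H' ⧸ (RingHom.ker (x.ofConv.comp (f : H →ₐ[k] H'))).map (f : H →ₐ[k] H')) =
      Module.finrank k (H' ⧸ (augIdeal k H).map (f : H →ₐ[k] H')) := by
  let g : WithConv (H →ₐ[k] k) := toConv (x.ofConv.comp (f : H →ₐ[k] H'))
  refine LinearEquiv.finrank_eq (Ideal.quotientEquivAlg _ _ (translEquiv x) ?_).toLinearEquiv
  have hg := counit_comp_transl g
  apply le_antisymm
  · rw [Ideal.map_le_iff_le_comap]
    intro y hy
    have h1 : (translEquiv g).symm y ∈ RingHom.ker g.ofConv := by
      rw [RingHom.mem_ker, ← hg]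
      change counit (R := k) (translEquiv g ((translEquiv g).symm y)) = 0
      rw [AlgEquiv.apply_symm_apply]
      exact hy
    have h2 : f y = translEquiv x (f ((translEquiv g).symm y)) := by
      refine Eq.trans ?_ (transl_comp_bialg f x _).symm
      change f y = f (translEquiv g ((translEquiv g).symm y))
      rw [AlgEquiv.apply_symm_apply]
    rw [Ideal.mem_comap]
    change f y ∈ _
    rw [h2]
    exact Ideal.mem_map_of_mem _ (Ideal.mem_map_of_mem (f : H →ₐ[k] H') h1)
  · rw [Ideal.map_le_iff_le_comap, Ideal.map_le_iff_le_comap]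
    intro y hy
    rw [Ideal.mem_comap, Ideal.mem_comap]
    have h2 : translEquiv x (f y) = f (transl g y) := transl_comp_bialg f x y
    change translEquiv x (f y) ∈ _
    rw [h2]
    refine Ideal.mem_map_of_mem (f : H →ₐ[k] H') ?_
    change (Bialgebra.counitAlgHom k H).comp (transl g) y = 0
    rw [hg]
    exact hy

theorem finrank_fibre {k : Type u} {R : Type v} {S : Type w} [Field k] [CommRing R] [CommRing S] [Algebra k R]
    [Algebra k S] [Algebra R S] [IsScalarTower k R S] (P : Ideal R) (hP : P.IsMaximal)
    (h1 : Module.finrank k (R ⧸ P) = 1) :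
    Module.finrank (R ⧸ P) ((R ⧸ P) ⊗[R] S) = Module.finrank k (S ⧸ P.map (algebraMap R S)) := by
  let _ : Field (R ⧸ P) := Ideal.Quotient.field _
  have : IsScalarTower k (R ⧸ P) (S ⧸ P.map (algebraMap R S)) := by
    refine IsScalarTower.of_algebraMap_eq fun c => ?_
    change Ideal.Quotient.mk _ (algebraMap k S c) = Ideal.Quotient.mk _ (algebraMap R S (algebraMap k R c))
    rw [← IsScalarTower.algebraMap_apply k R S]
  rw [← (Algebra.TensorProduct.quotIdealMapEquivQuotTensor S P).toLinearEquiv.finrank_eq,
    ← Module.finrank_mul_finrank k (R ⧸ P) (S ⧸ P.map (algebraMap R S)), h1, one_mul]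

/-- the order of a group scheme is the order of the image times the order of the kernel. -/
theorem finrank_eq_rank_mul (f : H →ₐc[k] H') :
    Module.finrank k H' = Module.finrank k (LinearMap.range (f : H →ₗ[k] H')) *
      Module.finrank k (H' ⧸ (augIdeal k H).map (f : H →ₐ[k] H')) := by
  let R : Subalgebra k H' := (f : H →ₐ[k] H').range
  have hft : Algebra.FiniteType k H := inferInstance
  have hft' : Algebra.FiniteType k H' := inferInstance
  have hff : Module.FaithfullyFlat R H' :=
    Groth.Agent.MiscA.HopfRange.faithfullyFlat_range_val f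
  have : Module.Finite k R := inferInstanceAs (Module.Finite k (Subalgebra.toSubmodule R))
  have : IsArtinianRing R := isArtinian_of_tower k inferInstance
  have : Module.Finite R H' := Module.Finite.of_restrictScalars_finite k R H'
  have hint : Algebra.IsIntegral R H' := inferInstance
  set q := Module.finrank k (H' ⧸ (augIdeal k H).map (f : H →ₐ[k] H')) with hq
  have key : ∀ P : MaximalSpectrum R, Module.finrank (R ⧸ P.1) ((R ⧸ P.1) ⊗[R] H') = q := by
    intro P
    have hP : P.1.IsMaximal := P.2
    obtain ⟨P', hP'max, hP'⟩ := Ideal.exists_ideal_over_maximal_of_isIntegral (S := H') P.1 (by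
      have h0 : RingHom.ker (algebraMap R H') = ⊥ := by
        rw [← RingHom.injective_iff_ker_eq_bot]
        exact Subtype.val_injective
      rw [h0]; exact bot_le)
    obtain ⟨x', hx'⟩ := (bijective_ker k H').2 ⟨P', hP'max⟩
    have hx'' : RingHom.ker x' = P' := congrArg MaximalSpectrum.asIdeal hx'
    have hmap : P.1.map (algebraMap R H') =
        (RingHom.ker (x'.comp (f : H →ₐ[k] H'))).map (f : H →ₐ[k] H') := by
      apply le_antisymm
      · rw [Ideal.map_le_iff_le_comap]
        rintro ⟨y, h, rfl⟩ hy
        rw [Ideal.mem_comap]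
        change f h ∈ _
        refine Ideal.mem_map_of_mem (f : H →ₐ[k] H') ?_
        rw [RingHom.mem_ker]
        rw [← hP', Ideal.mem_comap, ← hx''] at hy
        exact hy
      · rw [Ideal.map_le_iff_le_comap]
        intro h hh
        rw [Ideal.mem_comap]
        have h1 : (⟨f h, ⟨h, rfl⟩⟩ : R) ∈ P.1 := by
          rw [← hP', Ideal.mem_comap, ← hx'']
          exact hh
        exact Ideal.mem_map_of_mem (algebraMap R H') h1
    have h1 : Module.finrank k (R ⧸ P.1) = 1 := by
      let _ : Field (R ⧸ P.1) := Ideal.Quotient.field _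
      have hbij : Function.Bijective (algebraMap k (R ⧸ P.1)) :=
        IsAlgClosed.algebraMap_bijective_of_isIntegral
      rw [← Module.finrank_self k]
      exact (LinearEquiv.finrank_eq (AlgEquiv.ofBijective (Algebra.ofId k _) hbij).toLinearEquiv).symm
    rw [finrank_fibre P.1 hP h1, hmap]
    exact finrank_quot_ker f (toConv x')
  obtain ⟨b⟩ := Module.nonempty_basis_of_flat_of_finrank_eq R H' q key
  have : Module.Free R H' := Module.Free.of_basis b
  have hn : Nontrivial H' := nontrivial_of_bialg k H'
  have hn2 : Nontrivial R := ⟨⟨0, 1, fun h => zero_ne_one (congrArg Subtype.val h)⟩⟩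
  have hr : Module.finrank R H' = q := by
    rw [Module.finrank_eq_card_basis b, Fintype.card_fin]
  rw [← Module.finrank_mul_finrank k R H', hr]
  rfl

end K543.Tate
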