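import Groth.Agent.SGA7.K543.Chain
import Groth.Agent.S0607
import Mathlib.RingTheory.Flat.FaithfullyFlat.Algebra

/-!
# Barsotti-Tate systems over an algebraically closed field of characteristic `p`
-/

set_option autoImplicit false
set_option linter.unusedSectionVars false
universe u v w

open TensorProduct WithConv Coalgebra

namespace K543.Tate

open Groth.Agent.Sga3C.HopfPow K564.Tate

variable {k : Type u} [Field k] {p h : ℕ} [hp : Fact p.Prime] [CharP k p] (Ψ : Sys k p h)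

instance charPB (n : ℕ) : CharP (Ψ.B n) p := charP_of_hopf k (Ψ.B n) p

theorem inf_res_apply (n : ℕ) (x : Ψ.B (n + 1)) : Ψ.inf n (Ψ.res n x) = mulp k p _ x :=
  congrArg (fun t : Ψ.B (n + 1) →ₐc[k] Ψ.B (n + 1) => t x) (Ψ.inf_res n)

theorem res_inf_apply (n : ℕ) (x : Ψ.B n) : Ψ.res n (Ψ.inf n x) = mulp k p _ x :=
  congrArg (fun t : Ψ.B n →ₐc[k] Ψ.B n => t x) (Ψ.res_inf n)

/-- iterated restriction. -/
noncomputable def resI (n : ℕ) : ∀ j, Ψ.B (n + j) →ₐc[k] Ψ.B n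
  | 0 => BialgHom.id k _
  | j + 1 => (resI n j).comp (Ψ.res (n + j))

/-- iterated inflation. -/
noncomputable def infI (n : ℕ) : ∀ j, Ψ.B n →ₐc[k] Ψ.B (n + j)
  | 0 => BialgHom.id k _
  | j + 1 => (Ψ.inf (n + j)).comp (infI n j)

theorem infI_resI (n : ℕ) : ∀ (j : ℕ) (x : Ψ.B (n + j)), infI Ψ n j (resI Ψ n j x) = (mulp k p _)^[j] x
  | 0, x => rfl
  | j + 1, x => by
    change Ψ.inf (n + j) (infI Ψ n j (resI Ψ n j (Ψ.res (n + j) x))) = _
    have hs : Function.Semiconj (Ψ.inf (n + j)) (mulp k p (Ψ.B (n + j))) (mulp k p (Ψ.B (n + j + 1))) :=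
      fun y => mulp_comp (Ψ.inf (n + j)) y
    rw [infI_resI n j, Function.iterate_succ_apply]
    refine ((hs.iterate_right j) _).trans ?_
    exact congrArg ((mulp k p (Ψ.B (n + j + 1)))^[j]) (inf_res_apply Ψ (n + j) x)

theorem resI_surjective (n : ℕ) : ∀ j, Function.Surjective (resI Ψ n j)
  | 0 => Function.surjective_id
  | j + 1 => (resI_surjective n j).comp (Ψ.res_surj (n + j))

theorem infI_injective (n : ℕ) : ∀ j, Function.Injective (infI Ψ n j)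
  | 0 => Function.injective_id
  | j + 1 => (Ψ.inf_inj (n + j)).comp (infI_injective n j)

/-- restriction to the first layer. -/
noncomputable def toOne : ∀ n, Ψ.B (n + 1) →ₐc[k] Ψ.B 1
  | 0 => BialgHom.id k _
  | n + 1 => (toOne n).comp (Ψ.res (n + 1))

theorem toOne_surjective : ∀ n, Function.Surjective (toOne Ψ n)
  | 0 => Function.surjective_id
  | n + 1 => (toOne_surjective n).comp (Ψ.res_surj (n + 1))

theorem eq_zero_of_pow [PerfectRing k p] (n : ℕ) (x : Ψ.B (n + 1)) (hx : x ^ p = 0) : Ψ.res n x = 0 := by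
  apply Ψ.inf_inj n
  rw [inf_res_apply, mulp_eq_zero_of_pow x hx, map_zero]

theorem toOne_eq_zero_of_pow [PerfectRing k p] : ∀ (n : ℕ) (x : Ψ.B (n + 1)), x ^ (p ^ n) = 0 → toOne Ψ n x = 0
  | 0, x, hx => by
    rw [pow_zero, pow_one] at hx
    exact hx
  | n + 1, x, hx => by
    change toOne Ψ n (Ψ.res (n + 1) x) = 0
    apply toOne_eq_zero_of_pow n
    rw [← map_pow]
    apply eq_zero_of_pow
    rw [← pow_mul, ← pow_succ]
    exact hx

theorem mulp_one (x : Ψ.B 1) : mulp k p _ x = algebraMap k _ (counit x) := by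
  rw [← inf_res_apply]
  have h0 : Module.finrank k (Ψ.B 0) = 1 := by rw [Ψ.rank, zero_mul, pow_zero]
  have : Nontrivial (Ψ.B 0) := nontrivial_of_bialg k _
  obtain ⟨c, hc⟩ := (finrank_eq_one_iff_of_nonzero' (1 : Ψ.B 0) one_ne_zero).1 h0 (Ψ.res 0 x)
  have hc' : Ψ.res 0 x = algebraMap k _ c := by rw [← hc, Algebra.algebraMap_eq_smul_one]
  have h1 : counit (R := k) x = c := by
    rw [← CoalgHomClass.counit_comp_apply (Ψ.res 0) x]
    rw [hc', Bialgebra.counit_algebraMap]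
  rw [hc', h1]
  exact AlgHomClass.commutes (Ψ.inf 0) c

theorem toOne_inf (n : ℕ) (y : Ψ.B (n + 1)) (hy : y ∈ augIdeal k (Ψ.B (n + 1))) :
    toOne Ψ (n + 1) (Ψ.inf (n + 1) y) = 0 := by
  change toOne Ψ n (Ψ.res (n + 1) (Ψ.inf (n + 1) y)) = 0
  rw [res_inf_apply, mulp_comp, mulp_one, CoalgHomClass.counit_comp_apply, mem_augIdeal.1 hy, map_zero]

variable [IsAlgClosed k]

theorem ker_toOne (n : ℕ) : (augIdeal k (Ψ.B (n + 1))).map (Ψ.inf (n + 1) : Ψ.B (n + 1) →ₐ[k] Ψ.B (n + 1 + 1)) =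
    RingHom.ker (toOne Ψ (n + 1) : Ψ.B (n + 1 + 1) →ₐ[k] Ψ.B 1) := by
  apply eq_of_finrank_quot (k := k)
  · rw [Ideal.map_le_iff_le_comap]
    intro y hy
    exact toOne_inf Ψ n y hy
  · have h1 := finrank_eq_rank_mul (Ψ.inf (n + 1))
    have h2 : Module.finrank k (LinearMap.range (Ψ.inf (n + 1) : Ψ.B (n + 1) →ₗ[k] Ψ.B (n + 1 + 1))) =
        Module.finrank k (Ψ.B (n + 1)) := LinearMap.finrank_range_of_inj (Ψ.inf_inj (n + 1))
    have h3 : Module.finrank k (Ψ.B (n + 1 + 1) ⧸ RingHom.ker (toOne Ψ (n + 1) : Ψ.B (n + 1 + 1) →ₐ[k] Ψ.B 1)) =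
        Module.finrank k (Ψ.B 1) := finrank_quot_ker_eq (toOne Ψ (n + 1) : Ψ.B (n + 1 + 1) →ₐ[k] Ψ.B 1)
          (toOne_surjective Ψ (n + 1)) _ (fun x => Iff.rfl)
    rw [h2, Ψ.rank, Ψ.rank] at h1
    rw [h3, Ψ.rank]
    have h4 : p ^ ((n + 1 + 1) * h) = p ^ ((n + 1) * h) * p ^ (1 * h) := by rw [← pow_add]; congr 1; ring
    rw [h4] at h1
    exact (Nat.eq_of_mul_eq_mul_left (pow_pos hp.out.pos _) h1).symm.le

theorem mem_frobIdeal_of_toOne (n : ℕ) (x : Ψ.B (n + 1)) (hx : toOne Ψ n x = 0) :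
    x ∈ frobIdeal k p (Ψ.B (n + 1)) := by
  cases n with
  | zero =>
    have hx' : x = 0 := hx
    rw [hx']; exact zero_mem _
  | succ n =>
    have h1 : x ∈ (augIdeal k (Ψ.B (n + 1))).map (Ψ.inf (n + 1) : Ψ.B (n + 1) →ₐ[k] Ψ.B (n + 1 + 1)) := by
      rw [ker_toOne]; exact hx
    refine (Ideal.map_le_iff_le_comap.2 ?_) h1
    intro y hy
    rw [Ideal.mem_comap]
    obtain ⟨z, rfl⟩ := Ψ.res_surj (n + 1) y
    have hz : z ∈ augIdeal k (Ψ.B (n + 1 + 1)) := by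
      rw [mem_augIdeal, CoalgHomClass.counit_comp_apply] at hy
      exact hy
    change Ψ.inf (n + 1) (Ψ.res (n + 1) z) ∈ _
    rw [inf_res_apply]
    have h2 := mulp_mem_span_of_ker (p := p) (Bialgebra.counitBialgHom k (Ψ.B (n + 1 + 1))) z hz
    have h3 : Submodule.span k {z : Ψ.B (n + 1 + 1) | ∃ y, Bialgebra.counitBialgHom k (Ψ.B (n + 1 + 1)) y = 0 ∧ z = y ^ p} ≤
        (frobIdeal k p (Ψ.B (n + 1 + 1))).restrictScalars k := by
      rw [Submodule.span_le]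
      rintro _ ⟨y, hy, rfl⟩
      exact pow_mem_frobIdeal p hy
    exact h3 h2

/-- the number `dim B_1 / (x^p)`, i.e. the order of the kernel of Frobenius. -/
noncomputable def dF : ℕ := Module.finrank k (Ψ.B 1 ⧸ frobIdeal k p (Ψ.B 1))

theorem finrank_frobIdeal_eq (n : ℕ) : Module.finrank k (Ψ.B (n + 1) ⧸ frobIdeal k p (Ψ.B (n + 1))) = dF Ψ := by
  refine finrank_quot_comap (toOne Ψ n : Ψ.B (n + 1) →ₐ[k] Ψ.B 1) (toOne_surjective Ψ n) _ _ (fun x => ?_)
  have h4 : frobIdeal k p (Ψ.B 1) = (frobIdeal k p (Ψ.B (n + 1))).map (toOne Ψ n : Ψ.B (n + 1) →ₐ[k] Ψ.B 1) := by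
    rw [frobIdeal, ← map_augIdeal (toOne Ψ n) (toOne_surjective Ψ n)]
    exact map_frobIdeal (toOne Ψ n) _
  rw [h4, ← Ideal.mem_comap, Ideal.comap_map_of_surjective (toOne Ψ n : Ψ.B (n + 1) →ₐ[k] Ψ.B 1) (toOne_surjective Ψ n)]
  have h5 : Ideal.comap (toOne Ψ n : Ψ.B (n + 1) →ₐ[k] Ψ.B 1) ⊥ ≤ frobIdeal k p (Ψ.B (n + 1)) :=
    fun y hy => mem_frobIdeal_of_toOne Ψ n y hy
  rw [sup_eq_left.2 h5]

theorem finrank_Kp_mul (n : ℕ) : ∀ m, m ≤ n + 1 →
    Module.finrank k (Ψ.B (n + 1) ⧸ Kp (Ψ.B (n + 1)) p m) * (dF Ψ) ^ m = p ^ ((n + 1) * h) := by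
  intro m
  induction m with
  | zero =>
    intro _
    have h1 : Module.finrank k (Ψ.B (n + 1) ⧸ Kp (Ψ.B (n + 1)) p 0) = Module.finrank k (Ψ.B (n + 1)) :=
      finrank_quot_ker_eq (AlgHom.id k _) Function.surjective_id _ (fun x => by
        rw [mem_Kp, pow_zero, pow_one]; rfl)
    rw [h1, pow_zero, mul_one, Ψ.rank]
  | succ m ih =>
    intro hm
    have h1 := ih (by omega)
    rw [finrank_Kp] at h1
    have h2 : frobIdeal k p (Ψ.B (n + 1)) ⊔ Kp (Ψ.B (n + 1)) p m = frobIdeal k p (Ψ.B (n + 1)) := by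
      rw [sup_eq_left]
      intro x hx
      apply mem_frobIdeal_of_toOne
      apply toOne_eq_zero_of_pow
      rw [mem_Kp] at hx
      have h3 : p ^ n = p ^ m * p ^ (n - m) := by rw [← pow_add]; congr 1; omega
      rw [h3, pow_mul, hx, zero_pow (pow_ne_zero _ hp.out.ne_zero)]
    rw [h2, finrank_frobIdeal_eq] at h1
    rw [pow_succ, ← h1]
    ring

/-- the estimate of the cokernel of a homomorphism of layers. -/
theorem finrank_coker_le (N : ℕ) {D : Type u} [CommRing D] [HopfAlgebra k D] [IsCocomm k D] [Module.Finite k D]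
    (hD : Module.finrank k D = p ^ (N * h)) (u : Ψ.B N →ₐc[k] D) (j : ℕ) (hu : ∀ y, u y = 0 → y ^ (p ^ j) = 0) :
    Module.finrank k (D ⧸ (augIdeal k (Ψ.B N)).map (u : Ψ.B N →ₐ[k] D)) ≤ p ^ (j * h) := by
  have hpos : 0 < p := hp.out.pos
  by_cases hNj : N ≤ j
  · refine le_trans ?_ (Nat.pow_le_pow_right hpos (Nat.mul_le_mul_right h hNj))
    rw [← hD]
    exact LinearMap.finrank_le_finrank_of_surjective (f := (Ideal.Quotient.mkₐ k _).toLinearMap)
      Ideal.Quotient.mk_surjective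
  · obtain ⟨n, rfl⟩ : ∃ n, N = n + j := ⟨N - j, by omega⟩
    have h1 := finrank_eq_rank_mul u
    have h2 : p ^ (n * h) ≤ Module.finrank k (LinearMap.range (u : Ψ.B (n + j) →ₗ[k] D)) := by
      have h3 : LinearMap.ker (u : Ψ.B (n + j) →ₗ[k] D) ≤ LinearMap.ker (resI Ψ n j : Ψ.B (n + j) →ₗ[k] Ψ.B n) := by
        intro x hx
        have h4 := mulp_iterate_eq_zero (p := p) u j hu x hx
        rw [← infI_resI] at h4
        exact (map_eq_zero_iff _ (infI_injective Ψ n j)).1 h4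
      have h5 := Submodule.finrank_mono h3
      have h6 := LinearMap.finrank_range_add_finrank_ker (u : Ψ.B (n + j) →ₗ[k] D)
      have h7 := LinearMap.finrank_range_add_finrank_ker (resI Ψ n j : Ψ.B (n + j) →ₗ[k] Ψ.B n)
      have h8 : Module.finrank k (LinearMap.range (resI Ψ n j : Ψ.B (n + j) →ₗ[k] Ψ.B n)) = p ^ (n * h) := by
        have h9 : LinearMap.range (resI Ψ n j : Ψ.B (n + j) →ₗ[k] Ψ.B n) = ⊤ :=
          LinearMap.range_eq_top.2 (resI_surjective Ψ n j)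
        rw [h9, finrank_top, Ψ.rank]
      omega
    rw [hD, add_mul, pow_add] at h1
    have h9 : p ^ (n * h) * Module.finrank k (D ⧸ (augIdeal k (Ψ.B (n + j))).map (u : Ψ.B (n + j) →ₐ[k] D)) ≤
        p ^ (n * h) * p ^ (j * h) := by
      rw [h1]
      exact Nat.mul_le_mul_right _ h2
    exact Nat.le_of_mul_le_mul_left h9 (pow_pos hpos _)

end K543.Tate
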