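import Groth.Agent.SGA7.K543.SysF
import Mathlib.Analysis.SpecificLimits.Normed

/-!
# The dimension inequalities on the special fibre
-/

set_option autoImplicit false
set_option linter.unusedSectionVars false
universe u v w

open TensorProduct WithConv Coalgebra

namespace K543.Tate

open Groth.Agent.Sga3C.HopfPow K564.Tate

section growth

theorem le_of_growth (a d c p h : ℕ) (hd : 0 < d)
    (H : ∀ n : ℕ, a ^ (n + 1) ≤ (p * (c * (n + 1) + 1)) ^ h * d ^ (n + 1)) : a ≤ d := by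
  by_contra hlt
  push Not at hlt
  have hr : (1 : ℝ) < (a : ℝ) / d := by
    rw [one_lt_div (by exact_mod_cast hd)]
    exact_mod_cast hlt
  have h1 := tendsto_pow_const_div_const_pow_of_one_lt h hr
  set C : ℝ := ((p : ℝ) * (c + 1)) ^ h + 1 with hC
  have hCpos : 0 < C := by positivity
  have h2 := h1.eventually (gt_mem_nhds (show (0 : ℝ) < 1 / C by positivity))
  obtain ⟨N, hN⟩ := Filter.eventually_atTop.1 h2
  have h3 := hN (N + 1) (by omega)
  have h4 := H N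
  have hd' : (0 : ℝ) < d := by exact_mod_cast hd
  have h5 : ((a : ℝ) / d) ^ (N + 1) ≤ ((p : ℝ) * (c * (N + 1) + 1)) ^ h := by
    rw [div_pow, div_le_iff₀ (by positivity)]
    exact_mod_cast h4
  have h6 : ((p : ℝ) * (c * (N + 1) + 1)) ^ h ≤ ((p : ℝ) * (c + 1)) ^ h * ((N + 1 : ℕ) : ℝ) ^ h := by
    rw [← mul_pow]
    apply pow_le_pow_left₀ (by positivity)
    push_cast
    have : (0 : ℝ) ≤ (p : ℝ) * N := by positivity
    nlinarith
  have h7 : (0 : ℝ) < ((a : ℝ) / d) ^ (N + 1) := by positivity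
  rw [div_lt_iff₀ h7, one_div, ← div_eq_inv_mul, lt_div_iff₀ hCpos] at h3
  have h8 : (0 : ℝ) < ((N + 1 : ℕ) : ℝ) ^ h := by positivity
  nlinarith

end growth

variable {k : Type u} [Field k] [IsAlgClosed k] {p h : ℕ} [hp : Fact p.Prime] [CharP k p]

theorem dF_pos (Ψ : Sys k p h) : 0 < dF Ψ := by
  have h1 := finrank_Kp_mul Ψ 0 1 le_rfl
  rw [pow_one] at h1
  by_contra h2
  have h3 : dF Ψ = 0 := by omega
  rw [h3, mul_zero] at h1
  exact (pow_pos hp.out.pos _).ne h1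

/-- a homomorphism whose kernel ideal is nilpotent of logarithmic growth: comparison of the orders of the kernels of
Frobenius. -/
theorem dF_le (Ψ Ψ' : Sys k p h) (u : ∀ n, Ψ'.B n →ₐc[k] Ψ.B n) (c : ℕ)
    (hu : ∀ n j, c * n < p ^ j → ∀ y, u n y = 0 → y ^ (p ^ j) = 0) : dF Ψ' ≤ dF Ψ := by
  refine le_of_growth _ _ c p h (dF_pos Ψ) (fun n => ?_)
  let j := Nat.log p (c * (n + 1)) + 1
  have hj : c * (n + 1) < p ^ j := Nat.lt_pow_succ_log_self hp.out.one_lt _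
  have hj2 : p ^ j ≤ p * (c * (n + 1) + 1) := by
    change p ^ (Nat.log p (c * (n + 1)) + 1) ≤ _
    rw [pow_succ, mul_comm]
    apply Nat.mul_le_mul_left
    by_cases h0 : c * (n + 1) = 0
    · rw [h0, Nat.log_zero_right, pow_zero, zero_add]
    · exact (Nat.pow_log_le_self p h0).trans (Nat.le_succ _)
  have h1 := finrank_Kp_mul Ψ n (n + 1) le_rfl
  have h2 := finrank_Kp_mul Ψ' n (n + 1) le_rfl
  have h3 := finrank_Kp_le (p := p) (u (n + 1)) (n + 1)
  have h4 := finrank_coker_le Ψ' (n + 1) (Ψ.rank (n + 1)) (u (n + 1)) j (hu (n + 1) j hj)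
  set κ := Module.finrank k (Ψ.B (n + 1) ⧸ (augIdeal k (Ψ'.B (n + 1))).map (u (n + 1) : Ψ'.B (n + 1) →ₐ[k] Ψ.B (n + 1)))
  set X := Module.finrank k (Ψ.B (n + 1) ⧸ Kp (Ψ.B (n + 1)) p (n + 1))
  set X' := Module.finrank k (Ψ'.B (n + 1) ⧸ Kp (Ψ'.B (n + 1)) p (n + 1))
  have h5 : p ^ (j * h) ≤ (p * (c * (n + 1) + 1)) ^ h := by
    rw [pow_mul]
    exact Nat.pow_le_pow_left hj2 h
  have hX : 0 < X' := by
    by_contra h0
    have h0' : X' = 0 := by omega
    rw [h0', zero_mul] at h2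
    exact (pow_pos hp.out.pos _).ne h2
  have h6 : X' * dF Ψ' ^ (n + 1) ≤ X' * ((p * (c * (n + 1) + 1)) ^ h * dF Ψ ^ (n + 1)) := by
    rw [h2, ← h1]
    calc X * dF Ψ ^ (n + 1) ≤ (X' * κ) * dF Ψ ^ (n + 1) := Nat.mul_le_mul_right _ h3
      _ ≤ (X' * (p * (c * (n + 1) + 1)) ^ h) * dF Ψ ^ (n + 1) :=
          Nat.mul_le_mul_right _ (Nat.mul_le_mul_left _ (h4.trans h5))
      _ = _ := by ring
  exact Nat.le_of_mul_le_mul_left h6 hX

/-- if `φ^p(x) = 0` for all linear forms `φ` then `x` is in the ideal generated by the `p`-th powers. -/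
theorem mem_frobIdeal_of_dual (Ψ : Sys k p h) (x : Ψ.B 1)
    (hx : ∀ φ : WithConv (Ψ.B 1 →ₗ[k] k), (φ ^ p).ofConv x = 0) : x ∈ frobIdeal k p (Ψ.B 1) := by
  obtain ⟨y, rfl⟩ := Ψ.res_surj 1 x
  have h1 := mulp_mem_span (p := p) (Ψ.res 1) y hx
  rw [← inf_res_apply] at h1
  have hff : (Ψ.inf 1 : Ψ.B 1 →+* Ψ.B (1 + 1)).FaithfullyFlat :=
    Groth.Agent.S0607.result (Ψ.inf 1) (Ψ.inf_inj 1)
  have h2 : Submodule.span k {z : Ψ.B (1 + 1) | ∃ y, Ψ.res 1 y = 0 ∧ z = y ^ p} ≤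
      ((frobIdeal k p (Ψ.B 1)).map (Ψ.inf 1 : Ψ.B 1 →ₐ[k] Ψ.B (1 + 1))).restrictScalars k := by
    rw [Submodule.span_le]
    rintro _ ⟨z, hz, rfl⟩
    have h3 : z ∈ (augIdeal k (Ψ.B 1)).map (Ψ.inf 1 : Ψ.B 1 →ₐ[k] Ψ.B (1 + 1)) := by
      have h4 := ker_toOne Ψ 0
      rw [h4]
      exact hz
    have h5 := Ideal.mem_map_of_mem (frobenius (Ψ.B (1 + 1)) p) h3
    have h6 := map_frobIdeal (p := p) (Ψ.inf 1) (augIdeal k (Ψ.B 1))
    rw [h6] at h5
    exact h5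
  have h7 : Ψ.inf 1 (Ψ.res 1 y) ∈ (frobIdeal k p (Ψ.B 1)).map (Ψ.inf 1 : Ψ.B 1 →ₐ[k] Ψ.B (1 + 1)) := h2 h1
  algebraize [(Ψ.inf 1 : Ψ.B 1 →+* Ψ.B (1 + 1))]
  have h8 := Ideal.comap_map_eq_self_of_faithfullyFlat (B := Ψ.B (1 + 1)) (frobIdeal k p (Ψ.B 1))
  rw [← h8]
  exact h7

/-- the product of the orders of the kernels of Frobenius of the group and of its dual. -/
theorem dF_mul_le (Ψ : Sys k p h) [CharP (CartDual.D k (Ψ.B 1)) p] :
    dF Ψ * Module.finrank k (CartDual.D k (Ψ.B 1) ⧸ frobIdeal k p (CartDual.D k (Ψ.B 1))) ≤ p ^ h := by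
  let E := CartDual.D k (Ψ.B 1)
  have hE : Module.finrank k E = p ^ h := by
    have h1 : Module.finrank k E = Module.finrank k (Ψ.B 1) := by
      refine Eq.trans (CartDual.toDual k (Ψ.B 1)).finrank_eq ?_
      exact Subspace.dual_finrank_eq
    rw [h1, Ψ.rank, one_mul]
  have h1 := finrank_eq_frob_mul p k E
  rw [hE] at h1
  rw [h1]
  apply Nat.mul_le_mul_right
  let b := Module.finBasis k (E ⧸ kerFrob E p)
  have hl : ∀ j, ∃ e : E, Ideal.Quotient.mk _ e = b j := fun j => Ideal.Quotient.mk_surjective _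
  choose e he using hl
  let Λ : Ψ.B 1 →ₗ[k] (Fin (Module.finrank k (E ⧸ kerFrob E p)) → k) :=
    LinearMap.pi (fun j => ((e j) ^ p : WithConv (Ψ.B 1 →ₗ[k] k)).ofConv)
  have hker : LinearMap.ker Λ ≤ (frobIdeal k p (Ψ.B 1)).restrictScalars k := by
    intro x hx
    apply mem_frobIdeal_of_dual
    intro φ
    have h2 : Ideal.Quotient.mk (kerFrob E p) φ = ∑ j, b.repr (Ideal.Quotient.mk (kerFrob E p) φ) j • b j :=
      (b.sum_repr _).symm
    have h3 : φ - ∑ j, b.repr (Ideal.Quotient.mk (kerFrob E p) φ) j • e j ∈ kerFrob E p := by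
      rw [← Ideal.Quotient.eq, map_sum]
      refine h2.trans (Finset.sum_congr rfl fun j _ => ?_)
      rw [← he]
      rfl
    rw [mem_kerFrob, sub_pow_char, sum_pow_char p, sub_eq_zero] at h3
    have h4 : (φ ^ p : E) = ∑ j, (b.repr (Ideal.Quotient.mk (kerFrob E p) φ) j) ^ p • (e j) ^ p := by
      rw [h3]
      refine Finset.sum_congr rfl fun j _ => ?_
      rw [smul_pow]
    have h5 := congrArg (fun t : WithConv (Ψ.B 1 →ₗ[k] k) => t.ofConv x) h4
    refine h5.trans ?_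
    change (WithConv.ofConv (∑ j, (b.repr (Ideal.Quotient.mk (kerFrob E p) φ) j) ^ p • (e j) ^ p :
      WithConv (Ψ.B 1 →ₗ[k] k))) x = 0
    rw [WithConv.ofConv_sum, LinearMap.sum_apply]
    refine Finset.sum_eq_zero fun j _ => ?_
    have h6 : ((e j) ^ p : WithConv (Ψ.B 1 →ₗ[k] k)).ofConv x = 0 := congrFun hx j
    rw [WithConv.ofConv_smul, LinearMap.smul_apply, h6, smul_zero]
  have h7 : Module.finrank k (Ψ.B 1 ⧸ (frobIdeal k p (Ψ.B 1)).restrictScalars k) ≤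
      Module.finrank k (Ψ.B 1 ⧸ LinearMap.ker Λ) := by
    refine LinearMap.finrank_le_finrank_of_surjective (f := Submodule.factor hker) ?_
    exact Submodule.factor_surjective hker
  refine le_trans h7 ?_
  rw [(LinearMap.quotKerEquivRange Λ).finrank_eq]
  refine (Submodule.finrank_le _).trans ?_
  rw [Module.finrank_fin_fun]

end K543.Tate
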